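import Cfsg.Agent.Comp.M24y.Data

set_option autoImplicit false
set_option maxRecDepth 100000
set_option Elab.async false

namespace Cfsg.Agent.Comp.M24y

theorem s0 : allR J.slpAt 0 31 = true := by decide +kernel
theorem l6 : J.lvlAt L6 [] = true := by decide +kernel
theorem q6_0 : allR (schChk J.E L6 [] J.AB h6 (nat_lit 1) (nat_lit 1)) 0 3 = true := by decide +kernel
theorem l5 : J.lvlAt L5 [L6] = true := by decide +kernel
theorem q5_0 : allR (schChk J.E L5 [L6] J.AB h5 (nat_lit 8) (nat_lit 255)) 0 16 = true := by decide +kernel
theorem l4 : J.lvlAt L4 [L5, L6] = true := by decide +kernel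
theorem q4_0 : allR (schChk J.E L4 [L5, L6] J.AB h4 (nat_lit 16) (nat_lit 65535)) 0 20 = true := by decide +kernel
theorem l3 : J.lvlAt L3 [L4, L5, L6] = true := by decide +kernel
theorem q3_0 : allR (schChk J.E L3 [L4, L5, L6] J.AB h3 (nat_lit 24) (nat_lit 16777215)) 0 21 = true := by decide +kernel
theorem l2 : J.lvlAt L2 [L3, L4, L5, L6] = true := by decide +kernel
theorem q2_0 : allR (schChk J.E L2 [L3, L4, L5, L6] J.AB h2 (nat_lit 32) (nat_lit 4294967295)) 0 22 = true := by decide +kernel
theorem l1 : J.lvlAt L1 [L2, L3, L4, L5, L6] = true := by decide +kernel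
theorem q1_0 : allR (schChk J.E L1 [L2, L3, L4, L5, L6] J.AB h1 (nat_lit 40) (nat_lit 1099511627775)) 0 23 = true := by decide +kernel
theorem l0 : J.lvlAt L0 [L1, L2, L3, L4, L5, L6] = true := by decide +kernel
theorem q0_0 : allR (schChk J.E L0 [L1, L2, L3, L4, L5, L6] J.AB h0 (nat_lit 48) (nat_lit 281474976710655)) 0 24 = true := by decide +kernel
theorem rp : J.repsAt (nat_lit 26) xs = true := by decide +kernel
noncomputable def t270 : ℕ := nat_lit 0x28901880a048300d709898709880b80228b018804010b801884028909040700d705890101038b80b7020a0802018b8012880a8287098b80d28983840b058b802705060504038b80a70a8a8689060b80a883840608088b80d287878101858b80b28a0a0502028980a88a090580870b80d286868689050b80228a870280828a80a7078b0900870b80d283848107068b80b889078887048b80b883890607070b8017020a0307058700d7098502078a0b80a7020182830a0380d8848b0688060300b28a850106060b802282058a84018b8012860b0108870b00d285020984038b00b88a820b05800b80170a838200870b80d70a858608878b80288a098203008b8018858a8480870b80d283060306030700d705018587838b802889850280888b801286070300888b80d7020a8a84028200b28a08870a820b80a884838900870b80d70a828882020b80270a018686090500a88a8a8405070b801284888586028700d7098809818a8b80b882038506030b80228b030a8a868b80a2880a8103028880d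
theorem n270 : fullChk J.E [L0, L1, L2, L3, L4, L5, L6] R [nat_lit 184, nat_lit 8, nat_lit 16, nat_lit 24, nat_lit 40] t270 (nat_lit 64) (nat_lit 18446744073709551615) = true := by decide +kernel
noncomputable def t269 : ℕ := nat_lit 0x7038a8a0a868b804702088206030b802282080180828a809
theorem n269 : fullChk J.E [L0, L1, L2, L3, L4, L5, L6] R [nat_lit 184, nat_lit 8, nat_lit 16, nat_lit 24, nat_lit 32, nat_lit 104] t269 (nat_lit 64) (nat_lit 18446744073709551615) = true := by decide +kernel
noncomputable def t268 : ℕ := nat_lit 0x885818a80830b80328583010b080b809889880401840b801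
theorem n268 : fullChk J.E [L0, L1, L2, L3, L4, L5, L6] R [nat_lit 184, nat_lit 8, nat_lit 16, nat_lit 24, nat_lit 32, nat_lit 88] t268 (nat_lit 64) (nat_lit 18446744073709551615) = true := by decide +kernel
noncomputable def t267 : ℕ := nat_lit 0x28307048a888b806703878504058b8072840a85868286809
theorem n267 : fullChk J.E [L0, L1, L2, L3, L4, L5, L6] R [nat_lit 184, nat_lit 8, nat_lit 16, nat_lit 24, nat_lit 32, nat_lit 72] t267 (nat_lit 64) (nat_lit 18446744073709551615) = true := by decide +kernel
noncomputable def t266 : ℕ := nat_lit 0x2820a84030b0b80a8890a05098a8600b884888288800b808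
theorem n266 : fullChk J.E [L0, L1, L2, L3, L4, L5, L6] R [nat_lit 184, nat_lit 8, nat_lit 16, nat_lit 24, nat_lit 32, nat_lit 56] t266 (nat_lit 64) (nat_lit 18446744073709551615) = true := by decide +kernel
noncomputable def t265 : ℕ := nat_lit 0x28603878b058b8078878a058b090b805702070288040b809
theorem n265 : fullChk J.E [L0, L1, L2, L3, L4, L5, L6] R [nat_lit 184, nat_lit 8, nat_lit 16, nat_lit 24, nat_lit 32, nat_lit 112] t265 (nat_lit 64) (nat_lit 18446744073709551615) = true := by decide +kernel
noncomputable def t264 : ℕ := nat_lit 0x7050b010a058b8042868a0a04800600d88a018488888b803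
theorem n264 : fullChk J.E [L0, L1, L2, L3, L4, L5, L6] R [nat_lit 184, nat_lit 8, nat_lit 16, nat_lit 24, nat_lit 32, nat_lit 0] t264 (nat_lit 64) (nat_lit 18446744073709551615) = true := by decide +kernel
noncomputable def t263 : ℕ := nat_lit 0x1121211100112100000021001100110000210000000000
theorem n263 : redChk J.E [L0, L1, L2, L3, L4, L5, L6] J.AV [nat_lit 184, nat_lit 8, nat_lit 16, nat_lit 24, nat_lit 32] [nat_lit 31560485111857336] t263 [nat_lit 0, nat_lit 112, nat_lit 56, nat_lit 72, nat_lit 88, nat_lit 104] = true := by decide +kernel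
noncomputable def t262 : ℕ := nat_lit 0x286088904028b807702090103860700c88a828585088b807
theorem n262 : fullChk J.E [L0, L1, L2, L3, L4, L5, L6] R [nat_lit 184, nat_lit 8, nat_lit 16, nat_lit 24, nat_lit 0, nat_lit 128] t262 (nat_lit 64) (nat_lit 18446744073709551615) = true := by decide +kernel
noncomputable def t261 : ℕ := nat_lit 0x709818486870b80788a060104860300c284080a81828b807
theorem n261 : fullChk J.E [L0, L1, L2, L3, L4, L5, L6] R [nat_lit 184, nat_lit 8, nat_lit 16, nat_lit 24, nat_lit 0, nat_lit 160] t261 (nat_lit 64) (nat_lit 18446744073709551615) = true := by decide +kernel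
noncomputable def t260 : ℕ := nat_lit 0x885860502898680c88787890b070b80770a8b0201888b807
theorem n260 : fullChk J.E [L0, L1, L2, L3, L4, L5, L6] R [nat_lit 184, nat_lit 8, nat_lit 16, nat_lit 24, nat_lit 0, nat_lit 72] t260 (nat_lit 64) (nat_lit 18446744073709551615) = true := by decide +kernel
noncomputable def t259 : ℕ := nat_lit 0x702070389868b80c707848a86858a00c28b058582030b80c
theorem n259 : fullChk J.E [L0, L1, L2, L3, L4, L5, L6] R [nat_lit 184, nat_lit 8, nat_lit 16, nat_lit 24, nat_lit 0, nat_lit 80] t259 (nat_lit 64) (nat_lit 18446744073709551615) = true := by decide +kernel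
noncomputable def t258 : ℕ := nat_lit 0x883860408888b807883858101828b80770585848a000b80c
theorem n258 : fullChk J.E [L0, L1, L2, L3, L4, L5, L6] R [nat_lit 184, nat_lit 8, nat_lit 16, nat_lit 24, nat_lit 0, nat_lit 120] t258 (nat_lit 64) (nat_lit 18446744073709551615) = true := by decide +kernel
noncomputable def t257 : ℕ := nat_lit 0x287840688008b80c70989090a8a0b80c8820408060a0b80c
theorem n257 : fullChk J.E [L0, L1, L2, L3, L4, L5, L6] R [nat_lit 184, nat_lit 8, nat_lit 16, nat_lit 24, nat_lit 0, nat_lit 32] t257 (nat_lit 64) (nat_lit 18446744073709551615) = true := by decide +kernel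
noncomputable def t256 : ℕ := nat_lit 0x1111001121000000002121210000211111000000000000
theorem n256 : redChk J.E [L0, L1, L2, L3, L4, L5, L6] J.AV [nat_lit 184, nat_lit 8, nat_lit 16, nat_lit 24, nat_lit 0] [nat_lit 38315884552913080] t256 [nat_lit 32, nat_lit 120, nat_lit 80, nat_lit 72, nat_lit 160, nat_lit 128] = true := by decide +kernel
noncomputable def t255 : ℕ := nat_lit 0x1213332322122231114121312221114132000000000000
theorem n255 : redChk J.E [L0, L1, L2, L3, L4, L5, L6] J.AV [nat_lit 184, nat_lit 8, nat_lit 16, nat_lit 24] [nat_lit 11443820370067640, nat_lit 11452616463089848, nat_lit 11329471160778936] t255 [nat_lit 0, nat_lit 32, nat_lit 40] = true := by decide +kernel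
noncomputable def t254 : ℕ := nat_lit 0x88b0b0500878b8088838383098208008283888b02878580e28a090a008308808882050980878b808705830580860780e703828303838b8088848b05070483808289888388058b80888304840283870087050488848b0b808707820285058b80888207048a8a0b808286818881878b80e2850284068b0b808284850a02830b80e2878a0686820b80e7048502850a0b80828a828384878b8082860a81090a87008886088a89048880828a078b06838b808702040a068b0b808884868504878b8082880985048b0b80870a8981020187008702018b09010980e709060606080b8082820903858a8b8088820188050788808706870307038a8088838883050487008883858104020b80888681868684088087060206898a8b8088858582848a8b80870781810686888082880b0884058b808704090106068b80888b048304878b8082850186848b0b80888785810989870082820a0484890b808282078303888b80e7050306850b0b80828408828b038b808885840b048a8800e883870a048488808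
theorem n254 : fullChk J.E [L0, L1, L2, L3, L4, L5, L6] R [nat_lit 184, nat_lit 8, nat_lit 16, nat_lit 0, nat_lit 40] t254 (nat_lit 64) (nat_lit 18446744073709551615) = true := by decide +kernel
noncomputable def t253 : ℕ := nat_lit 0x28b018b09868b8047060a0a88070b80328985858b0703008
theorem n253 : fullChk J.E [L0, L1, L2, L3, L4, L5, L6] R [nat_lit 184, nat_lit 8, nat_lit 16, nat_lit 0, nat_lit 32, nat_lit 88] t253 (nat_lit 64) (nat_lit 18446744073709551615) = true := by decide +kernel
noncomputable def t252 : ℕ := nat_lit 0x28a840209868b804286830982078b80388b0205848b0b808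
theorem n252 : fullChk J.E [L0, L1, L2, L3, L4, L5, L6] R [nat_lit 184, nat_lit 8, nat_lit 16, nat_lit 0, nat_lit 32, nat_lit 72] t252 (nat_lit 64) (nat_lit 18446744073709551615) = true := by decide +kernel
noncomputable def t251 : ℕ := nat_lit 0x2840909020b0b803888070b09828600e883850185048b804
theorem n251 : fullChk J.E [L0, L1, L2, L3, L4, L5, L6] R [nat_lit 184, nat_lit 8, nat_lit 16, nat_lit 0, nat_lit 32, nat_lit 56] t251 (nat_lit 64) (nat_lit 18446744073709551615) = true := by decide +kernel
noncomputable def t250 : ℕ := nat_lit 0x28b098589860b8032820a0185020b808289060289850b804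
theorem n250 : fullChk J.E [L0, L1, L2, L3, L4, L5, L6] R [nat_lit 184, nat_lit 8, nat_lit 16, nat_lit 0, nat_lit 32, nat_lit 48] t250 (nat_lit 64) (nat_lit 18446744073709551615) = true := by decide +kernel
noncomputable def t249 : ℕ := nat_lit 0x889078587068b808283098102870b8087098582018004008
theorem n249 : fullChk J.E [L0, L1, L2, L3, L4, L5, L6] R [nat_lit 184, nat_lit 8, nat_lit 16, nat_lit 0, nat_lit 32, nat_lit 40] t249 (nat_lit 64) (nat_lit 18446744073709551615) = true := by decide +kernel
noncomputable def t248 : ℕ := nat_lit 0x884840a808705008284828a818a0b808707830984040b808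
theorem n248 : fullChk J.E [L0, L1, L2, L3, L4, L5, L6] R [nat_lit 184, nat_lit 8, nat_lit 16, nat_lit 0, nat_lit 32, nat_lit 24] t248 (nat_lit 64) (nat_lit 18446744073709551615) = true := by decide +kernel
noncomputable def t247 : ℕ := nat_lit 0x11112111110021210011002100210000000000000000
theorem n247 : redChk J.E [L0, L1, L2, L3, L4, L5, L6] J.AV [nat_lit 184, nat_lit 8, nat_lit 16, nat_lit 0, nat_lit 32] [nat_lit 38315884552913080] t247 [nat_lit 24, nat_lit 40, nat_lit 48, nat_lit 56, nat_lit 72, nat_lit 88] = true := by decide +kernel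
noncomputable def t246 : ℕ := nat_lit 0x88a8704070b0b80e882068602070800e884860a02860b808
theorem n246 : fullChk J.E [L0, L1, L2, L3, L4, L5, L6] R [nat_lit 184, nat_lit 8, nat_lit 16, nat_lit 0, nat_lit 24, nat_lit 104] t246 (nat_lit 64) (nat_lit 18446744073709551615) = true := by decide +kernel
noncomputable def t245 : ℕ := nat_lit 0x70a06840b060b80888584088b038b80870a040a08038180e
theorem n245 : fullChk J.E [L0, L1, L2, L3, L4, L5, L6] R [nat_lit 184, nat_lit 8, nat_lit 16, nat_lit 0, nat_lit 24, nat_lit 152] t245 (nat_lit 64) (nat_lit 18446744073709551615) = true := by decide +kernel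
noncomputable def t244 : ℕ := nat_lit 0x2848a0687898b808285068688858180870481880a888b80e
theorem n244 : fullChk J.E [L0, L1, L2, L3, L4, L5, L6] R [nat_lit 184, nat_lit 8, nat_lit 16, nat_lit 0, nat_lit 24, nat_lit 72] t244 (nat_lit 64) (nat_lit 18446744073709551615) = true := by decide +kernel
noncomputable def t243 : ℕ := nat_lit 0x289850889898b80e285850985850500e2880204870a0b808
theorem n243 : fullChk J.E [L0, L1, L2, L3, L4, L5, L6] R [nat_lit 184, nat_lit 8, nat_lit 16, nat_lit 0, nat_lit 24, nat_lit 96] t243 (nat_lit 64) (nat_lit 18446744073709551615) = true := by decide +kernel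
noncomputable def t242 : ℕ := nat_lit 0x886088b04060b808703850982040280e703848b070681808
theorem n242 : fullChk J.E [L0, L1, L2, L3, L4, L5, L6] R [nat_lit 184, nat_lit 8, nat_lit 16, nat_lit 0, nat_lit 24, nat_lit 48] t242 (nat_lit 64) (nat_lit 18446744073709551615) = true := by decide +kernel
noncomputable def t241 : ℕ := nat_lit 0x286078483858180e28a05050a018b80e888088305858200e
theorem n241 : fullChk J.E [L0, L1, L2, L3, L4, L5, L6] R [nat_lit 184, nat_lit 8, nat_lit 16, nat_lit 0, nat_lit 24, nat_lit 32] t241 (nat_lit 64) (nat_lit 18446744073709551615) = true := by decide +kernel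
noncomputable def t240 : ℕ := nat_lit 0x2111210011001121000000111100212100000000000000
theorem n240 : redChk J.E [L0, L1, L2, L3, L4, L5, L6] J.AV [nat_lit 184, nat_lit 8, nat_lit 16, nat_lit 0, nat_lit 24] [nat_lit 38315884552913080] t240 [nat_lit 32, nat_lit 48, nat_lit 96, nat_lit 72, nat_lit 152, nat_lit 104] = true := by decide +kernel
noncomputable def t239 : ℕ := nat_lit 0x3241332213133111232232332312434221000000000000
theorem n239 : redChk J.E [L0, L1, L2, L3, L4, L5, L6] J.AV [nat_lit 184, nat_lit 8, nat_lit 16, nat_lit 0] [nat_lit 38439029855223992, nat_lit 11338267253801144, nat_lit 11391043811934392] t239 [nat_lit 24, nat_lit 32, nat_lit 40] = true := by decide +kernel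
noncomputable def t238 : ℕ := nat_lit 0x2231513141122131223252414132424121511100000000
theorem n238 : redChk J.E [L0, L1, L2, L3, L4, L5, L6] J.AV [nat_lit 184, nat_lit 8, nat_lit 16] [nat_lit 31701703636549816, nat_lit 31683664773906616] t238 [nat_lit 0, nat_lit 24] = true := by decide +kernel
noncomputable def t237 : ℕ := nat_lit 0x28a018481028280728206810b0287007289018b038a0b00828388020482828072838a0a8102870072848a840a878b80828784858602828078868788880a0b80c88506818483898088868b038804050082840981068282807703890803870b80788a0a880a870a80888a0a8a82850980c289880985870b807886030405090b8088860a07878a8380c709860388820b80c882088807010700c70a8184840a0b80870b030a89828b807885018781040b8087058a8509850b80c283858786070b8078860188858a0200c282018205068b8088898786088b0200c88a888807098700c2858904850906008283088b04068300c886098906070b807889898204038b80870a0a0101880280c2880881068282807887850a868a0700c884060107068680828b0b08048282807884088201058600c286080a018b0b8082848681070282807282070707870b807886818505090b808705050584038b808709890a87818500c2898a81048287007284860a07040900c88a020884020b808706868788840b80c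
theorem n237 : fullChk J.E [L0, L1, L2, L3, L4, L5, L6] R [nat_lit 184, nat_lit 8, nat_lit 0, nat_lit 24, nat_lit 136] t237 (nat_lit 64) (nat_lit 18446744073709551615) = true := by decide +kernel
noncomputable def t236 : ℕ := nat_lit 0x2850a8188078b8078878185008284007283828201020b801
theorem n236 : fullChk J.E [L0, L1, L2, L3, L4, L5, L6] R [nat_lit 184, nat_lit 8, nat_lit 0, nat_lit 24, nat_lit 32, nat_lit 128] t236 (nat_lit 64) (nat_lit 18446744073709551615) = true := by decide +kernel
noncomputable def t235 : ℕ := nat_lit 0x283078b008a0b00870a818702038b80128a050105000b802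
theorem n235 : fullChk J.E [L0, L1, L2, L3, L4, L5, L6] R [nat_lit 184, nat_lit 8, nat_lit 0, nat_lit 24, nat_lit 32, nat_lit 168] t235 (nat_lit 64) (nat_lit 18446744073709551615) = true := by decide +kernel
noncomputable def t234 : ℕ := nat_lit 0x28a830786058b80c70a818884088780828405868b038b808
theorem n234 : fullChk J.E [L0, L1, L2, L3, L4, L5, L6] R [nat_lit 184, nat_lit 8, nat_lit 0, nat_lit 24, nat_lit 32, nat_lit 80] t234 (nat_lit 64) (nat_lit 18446744073709551615) = true := by decide +kernel
noncomputable def t233 : ℕ := nat_lit 0x886088a06800b80228a098a0b048b8018898507018a8b808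
theorem n233 : fullChk J.E [L0, L1, L2, L3, L4, L5, L6] R [nat_lit 184, nat_lit 8, nat_lit 0, nat_lit 24, nat_lit 32, nat_lit 144] t233 (nat_lit 64) (nat_lit 18446744073709551615) = true := by decide +kernel
noncomputable def t232 : ℕ := nat_lit 0x285078301830b80728a870285840b807284878282000b802
theorem n232 : fullChk J.E [L0, L1, L2, L3, L4, L5, L6] R [nat_lit 184, nat_lit 8, nat_lit 0, nat_lit 24, nat_lit 32, nat_lit 112] t232 (nat_lit 64) (nat_lit 18446744073709551615) = true := by decide +kernel
noncomputable def t231 : ℕ := nat_lit 0x7098b0a8700838088820489850a8b808286848186048b808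
theorem n231 : fullChk J.E [L0, L1, L2, L3, L4, L5, L6] R [nat_lit 184, nat_lit 8, nat_lit 0, nat_lit 24, nat_lit 32, nat_lit 16] t231 (nat_lit 64) (nat_lit 18446744073709551615) = true := by decide +kernel
noncomputable def t230 : ℕ := nat_lit 0x2100000000110021001111000011212111210000000000
theorem n230 : redChk J.E [L0, L1, L2, L3, L4, L5, L6] J.AV [nat_lit 184, nat_lit 8, nat_lit 0, nat_lit 24, nat_lit 32] [nat_lit 31560485111857336] t230 [nat_lit 16, nat_lit 112, nat_lit 144, nat_lit 80, nat_lit 168, nat_lit 128] = true := by decide +kernel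
noncomputable def t229 : ℕ := nat_lit 0x28482888b060b80828a070405810280c709870a09080b808
theorem n229 : fullChk J.E [L0, L1, L2, L3, L4, L5, L6] R [nat_lit 184, nat_lit 8, nat_lit 0, nat_lit 24, nat_lit 16, nat_lit 128] t229 (nat_lit 64) (nat_lit 18446744073709551615) = true := by decide +kernel
noncomputable def t228 : ℕ := nat_lit 0x2820787040609008886028705850b80870581888b098b80c
theorem n228 : fullChk J.E [L0, L1, L2, L3, L4, L5, L6] R [nat_lit 184, nat_lit 8, nat_lit 0, nat_lit 24, nat_lit 16, nat_lit 152] t228 (nat_lit 64) (nat_lit 18446744073709551615) = true := by decide +kernel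
noncomputable def t227 : ℕ := nat_lit 0x28a030a06080800828a830706880b80828a018606070700c
theorem n227 : fullChk J.E [L0, L1, L2, L3, L4, L5, L6] R [nat_lit 184, nat_lit 8, nat_lit 0, nat_lit 24, nat_lit 16, nat_lit 72] t227 (nat_lit 64) (nat_lit 18446744073709551615) = true := by decide +kernel
noncomputable def t226 : ℕ := nat_lit 0x28a868a820b0700f883060a8a8b0b8082830788018586008
theorem n226 : fullChk J.E [L0, L1, L2, L3, L4, L5, L6] R [nat_lit 184, nat_lit 8, nat_lit 0, nat_lit 24, nat_lit 16, nat_lit 56] t226 (nat_lit 64) (nat_lit 18446744073709551615) = true := by decide +kernel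
noncomputable def t225 : ℕ := nat_lit 0x287868b030a0b80c88209060b0709808883030109840b808
theorem n225 : fullChk J.E [L0, L1, L2, L3, L4, L5, L6] R [nat_lit 184, nat_lit 8, nat_lit 0, nat_lit 24, nat_lit 16, nat_lit 48] t225 (nat_lit 64) (nat_lit 18446744073709551615) = true := by decide +kernel
noncomputable def t224 : ℕ := nat_lit 0x706078583060500f88a888582048b8082890a0807080b808
theorem n224 : fullChk J.E [L0, L1, L2, L3, L4, L5, L6] R [nat_lit 184, nat_lit 8, nat_lit 0, nat_lit 24, nat_lit 16, nat_lit 32] t224 (nat_lit 64) (nat_lit 18446744073709551615) = true := by decide +kernel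
noncomputable def t223 : ℕ := nat_lit 0x1111210011000021002111112100210000000000000000
theorem n223 : redChk J.E [L0, L1, L2, L3, L4, L5, L6] J.AV [nat_lit 184, nat_lit 8, nat_lit 0, nat_lit 24, nat_lit 16] [nat_lit 38315884552913080] t223 [nat_lit 32, nat_lit 48, nat_lit 56, nat_lit 72, nat_lit 152, nat_lit 128] = true := by decide +kernel
noncomputable def t222 : ℕ := nat_lit 0x3111333123002312212232212132213113110000000000
theorem n222 : redChk J.E [L0, L1, L2, L3, L4, L5, L6] J.AV [nat_lit 184, nat_lit 8, nat_lit 0, nat_lit 24] [nat_lit 31578077297901752, nat_lit 31657242135101624, nat_lit 31710018693234872] t222 [nat_lit 16, nat_lit 32, nat_lit 136] = true := by decide +kernel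
noncomputable def t221 : ℕ := nat_lit 0x28982090a010b80f885070a880281007704018980828100728a020185070280f284048a880281007707888607010b807282060607850b80c88a060a04810b807285048984078b80c2840b0686898b80c28a888401028680f887848b04840200c286888a880281007282048106038b80c289828807058b80c88a0a8601010b807288018a82810280c28903030a010b807708030884860b80c8850709088281007282070602858280c884870508810b807702030a03020b80c884870404868b80c70a888781048b80c88a828484880b00c885818109820880c885818a02898680c883840a02828b80c887850702038280c702068687010b8078850b0a02858500c88a0b0786030b80c709030986060880c7080201028a0b80c88206888a810b807287870a87040b80c2878381028281007883840304870b80c28a8b0100868800f2898a0a018a0400c887898b01828b80c706018105018b80c28a0a0a82810280c28a898908810b807887840609010b80728a860484010b807287860704868280c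
theorem n221 : fullChk J.E [L0, L1, L2, L3, L4, L5, L6] R [nat_lit 184, nat_lit 8, nat_lit 0, nat_lit 16, nat_lit 112] t221 (nat_lit 64) (nat_lit 18446744073709551615) = true := by decide +kernel
noncomputable def t220 : ℕ := nat_lit 0x28686828a8a8b80828a020209838300c889090a08020b80c
theorem n220 : fullChk J.E [L0, L1, L2, L3, L4, L5, L6] R [nat_lit 184, nat_lit 8, nat_lit 0, nat_lit 16, nat_lit 32, nat_lit 88] t220 (nat_lit 64) (nat_lit 18446744073709551615) = true := by decide +kernel
noncomputable def t219 : ℕ := nat_lit 0x7040b0684090b8082838b0a8a828100728a068a898281007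
theorem n219 : fullChk J.E [L0, L1, L2, L3, L4, L5, L6] R [nat_lit 184, nat_lit 8, nat_lit 0, nat_lit 16, nat_lit 32, nat_lit 72] t219 (nat_lit 64) (nat_lit 18446744073709551615) = true := by decide +kernel
noncomputable def t218 : ℕ := nat_lit 0x889018800868780c2820a8806880b8082820888020a8a80c
theorem n218 : fullChk J.E [L0, L1, L2, L3, L4, L5, L6] R [nat_lit 184, nat_lit 8, nat_lit 0, nat_lit 16, nat_lit 32, nat_lit 96] t218 (nat_lit 64) (nat_lit 18446744073709551615) = true := by decide +kernel
noncomputable def t217 : ℕ := nat_lit 0x88a028480828100728207810b010b80728a040a8b078b808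
theorem n217 : fullChk J.E [L0, L1, L2, L3, L4, L5, L6] R [nat_lit 184, nat_lit 8, nat_lit 0, nat_lit 16, nat_lit 32, nat_lit 48] t217 (nat_lit 64) (nat_lit 18446744073709551615) = true := by decide +kernel
noncomputable def t216 : ℕ := nat_lit 0x88a87898705810082840b0386880b808285890382898900c
theorem n216 : fullChk J.E [L0, L1, L2, L3, L4, L5, L6] R [nat_lit 184, nat_lit 8, nat_lit 0, nat_lit 16, nat_lit 32, nat_lit 136] t216 (nat_lit 64) (nat_lit 18446744073709551615) = true := by decide +kernel
noncomputable def t215 : ℕ := nat_lit 0x705880504870a00f2868209058a8b80888a8b0584890b808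
theorem n215 : fullChk J.E [L0, L1, L2, L3, L4, L5, L6] R [nat_lit 184, nat_lit 8, nat_lit 0, nat_lit 16, nat_lit 32, nat_lit 24] t215 (nat_lit 64) (nat_lit 18446744073709551615) = true := by decide +kernel
noncomputable def t214 : ℕ := nat_lit 0x11112111000021110000001100212100210000000000
theorem n214 : redChk J.E [L0, L1, L2, L3, L4, L5, L6] J.AV [nat_lit 184, nat_lit 8, nat_lit 0, nat_lit 16, nat_lit 32] [nat_lit 38315884552913080] t214 [nat_lit 24, nat_lit 136, nat_lit 48, nat_lit 96, nat_lit 72, nat_lit 88] = true := by decide +kernel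
noncomputable def t213 : ℕ := nat_lit 0x2830a02060a0100c28a0a8580838b00f28a080304880880c
theorem n213 : fullChk J.E [L0, L1, L2, L3, L4, L5, L6] R [nat_lit 184, nat_lit 8, nat_lit 0, nat_lit 16, nat_lit 24, nat_lit 104] t213 (nat_lit 64) (nat_lit 18446744073709551615) = true := by decide +kernel
noncomputable def t212 : ℕ := nat_lit 0x885028888880280c284018984880700c284018604850180f
theorem n212 : fullChk J.E [L0, L1, L2, L3, L4, L5, L6] R [nat_lit 184, nat_lit 8, nat_lit 0, nat_lit 16, nat_lit 24, nat_lit 88] t212 (nat_lit 64) (nat_lit 18446744073709551615) = true := by decide +kernel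
noncomputable def t211 : ℕ := nat_lit 0x289818986898180c284078305038b80c887860507860280c
theorem n211 : fullChk J.E [L0, L1, L2, L3, L4, L5, L6] R [nat_lit 184, nat_lit 8, nat_lit 0, nat_lit 16, nat_lit 24, nat_lit 64] t211 (nat_lit 64) (nat_lit 18446744073709551615) = true := by decide +kernel
noncomputable def t210 : ℕ := nat_lit 0x70a890404850b80c70a018403848400f709870989878100c
theorem n210 : fullChk J.E [L0, L1, L2, L3, L4, L5, L6] R [nat_lit 184, nat_lit 8, nat_lit 0, nat_lit 16, nat_lit 24, nat_lit 56] t210 (nat_lit 64) (nat_lit 18446744073709551615) = true := by decide +kernel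
noncomputable def t209 : ℕ := nat_lit 0x889080587038b80c286888108820100c282018985088180c
theorem n209 : fullChk J.E [L0, L1, L2, L3, L4, L5, L6] R [nat_lit 184, nat_lit 8, nat_lit 0, nat_lit 16, nat_lit 24, nat_lit 48] t209 (nat_lit 64) (nat_lit 18446744073709551615) = true := by decide +kernel
noncomputable def t208 : ℕ := nat_lit 0x707828207028a00f889898a08860b80f702030508808100f
theorem n208 : fullChk J.E [L0, L1, L2, L3, L4, L5, L6] R [nat_lit 184, nat_lit 8, nat_lit 0, nat_lit 16, nat_lit 24, nat_lit 32] t208 (nat_lit 64) (nat_lit 18446744073709551615) = true := by decide +kernel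
noncomputable def t207 : ℕ := nat_lit 0x1111211121002111000021001121000000000000000000
theorem n207 : redChk J.E [L0, L1, L2, L3, L4, L5, L6] J.AV [nat_lit 184, nat_lit 8, nat_lit 0, nat_lit 16, nat_lit 24] [nat_lit 31560485111857336] t207 [nat_lit 32, nat_lit 48, nat_lit 56, nat_lit 64, nat_lit 88, nat_lit 104] = true := by decide +kernel
noncomputable def t206 : ℕ := nat_lit 0x3321212333222222003222323113113112120000000000
theorem n206 : redChk J.E [L0, L1, L2, L3, L4, L5, L6] J.AV [nat_lit 184, nat_lit 8, nat_lit 0, nat_lit 16] [nat_lit 38359865018024120, nat_lit 11311878974734520, nat_lit 38351068925001912] t206 [nat_lit 24, nat_lit 32, nat_lit 112] = true := by decide +kernel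
noncomputable def t205 : ℕ := nat_lit 0x3111315221422242512242213232321251415100000000
theorem n205 : redChk J.E [L0, L1, L2, L3, L4, L5, L6] J.AV [nat_lit 184, nat_lit 8, nat_lit 0] [nat_lit 31683767853121720, nat_lit 31622676238303416] t205 [nat_lit 16, nat_lit 24] = true := by decide +kernel
noncomputable def t204 : ℕ := nat_lit 0x3221516222325221524142514252114131123242000000
theorem n204 : redChk J.E [L0, L1, L2, L3, L4, L5, L6] J.AV [nat_lit 184, nat_lit 8] [nat_lit 31622539202003128, nat_lit 38474352471572664] t204 [nat_lit 0, nat_lit 16] = true := by decide +kernel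
noncomputable def t203 : ℕ := nat_lit 0x884870788828700d28a0a8788870000d2890a8805040b80c886828307028000d28a08040b088b80d286850286000b807702030707000b80d2868b0102810000d28481898a02800072830384070280007285060a03020700d28384810b040880d2868a030a800b807285818508828700d286090a02000680d706818907800b80788b068788000700d28905840b088b80d284050b04800a00d883860387060b80c70a078987070b80d8898605890a0b80c88a060787878700d28a86898b088b80d282050506030480d88b078a8b040b00c703018406038700d88a8b0204800300d283818203000b8077040a0487000b80d2838a0803030880d8858a0483800b807709870289800700d8840a8108828700d88209868a800b80d28403030a800b807706898107000b80d28601860a050880d28a048a06048580c289098387000b80d883088209828880d284820203858780c882050207890b80c883018781070b80d889850882800880d704838202800880d2820a04820a8000c28609050a800700d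
theorem n203 : fullChk J.E [L0, L1, L2, L3, L4, L5, L6] R [nat_lit 184, nat_lit 0, nat_lit 16, nat_lit 24, nat_lit 40] t203 (nat_lit 64) (nat_lit 18446744073709551615) = true := by decide +kernel
noncomputable def t202 : ℕ := nat_lit 0x8848b08840280007707840108010b808883078204800b807
theorem n202 : fullChk J.E [L0, L1, L2, L3, L4, L5, L6] R [nat_lit 184, nat_lit 0, nat_lit 16, nat_lit 24, nat_lit 32, nat_lit 176] t202 (nat_lit 64) (nat_lit 18446744073709551615) = true := by decide +kernel
noncomputable def t201 : ℕ := nat_lit 0x28a05848b028000928b048708000b809286820389800680b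
theorem n201 : fullChk J.E [L0, L1, L2, L3, L4, L5, L6] R [nat_lit 184, nat_lit 0, nat_lit 16, nat_lit 24, nat_lit 32, nat_lit 88] t201 (nat_lit 64) (nat_lit 18446744073709551615) = true := by decide +kernel
noncomputable def t200 : ℕ := nat_lit 0x2890188080a8000a282090101028b00b288048906000b80d
theorem n200 : fullChk J.E [L0, L1, L2, L3, L4, L5, L6] R [nat_lit 184, nat_lit 0, nat_lit 16, nat_lit 24, nat_lit 32, nat_lit 80] t200 (nat_lit 64) (nat_lit 18446744073709551615) = true := by decide +kernel
noncomputable def t199 : ℕ := nat_lit 0x28a060282090b80d28503878a000b80b7038a8683058b80a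
theorem n199 : fullChk J.E [L0, L1, L2, L3, L4, L5, L6] R [nat_lit 184, nat_lit 0, nat_lit 16, nat_lit 24, nat_lit 32, nat_lit 48] t199 (nat_lit 64) (nat_lit 18446744073709551615) = true := by decide +kernel
noncomputable def t198 : ℕ := nat_lit 0x28a088286800b80988301880a800b80a2890984070280009
theorem n198 : fullChk J.E [L0, L1, L2, L3, L4, L5, L6] R [nat_lit 184, nat_lit 0, nat_lit 16, nat_lit 24, nat_lit 32, nat_lit 40] t198 (nat_lit 64) (nat_lit 18446744073709551615) = true := by decide +kernel
noncomputable def t197 : ℕ := nat_lit 0x706830a06030000c8850709038a8b80c88b078288858000c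
theorem n197 : fullChk J.E [L0, L1, L2, L3, L4, L5, L6] R [nat_lit 184, nat_lit 0, nat_lit 16, nat_lit 24, nat_lit 32, nat_lit 8] t197 (nat_lit 64) (nat_lit 18446744073709551615) = true := by decide +kernel
noncomputable def t196 : ℕ := nat_lit 0x112111112121211121000000001100000000000000
theorem n196 : redChk J.E [L0, L1, L2, L3, L4, L5, L6] J.AV [nat_lit 184, nat_lit 0, nat_lit 16, nat_lit 24, nat_lit 32] [nat_lit 38315884552913080] t196 [nat_lit 8, nat_lit 40, nat_lit 48, nat_lit 80, nat_lit 88, nat_lit 176] = true := by decide +kernel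
noncomputable def t195 : ℕ := nat_lit 0x283818782060000e88b040a85858b80828504820a850b808
theorem n195 : fullChk J.E [L0, L1, L2, L3, L4, L5, L6] R [nat_lit 184, nat_lit 0, nat_lit 16, nat_lit 24, nat_lit 8, nat_lit 128] t195 (nat_lit 64) (nat_lit 18446744073709551615) = true := by decide +kernel
noncomputable def t194 : ℕ := nat_lit 0x882040787028880e282030305820b808286090887060b808
theorem n194 : fullChk J.E [L0, L1, L2, L3, L4, L5, L6] R [nat_lit 184, nat_lit 0, nat_lit 16, nat_lit 24, nat_lit 8, nat_lit 88] t194 (nat_lit 64) (nat_lit 18446744073709551615) = true := by decide +kernel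
noncomputable def t193 : ℕ := nat_lit 0x887888108898000888a030889800280e28b0382808a0b808
theorem n193 : fullChk J.E [L0, L1, L2, L3, L4, L5, L6] R [nat_lit 184, nat_lit 0, nat_lit 16, nat_lit 24, nat_lit 8, nat_lit 64] t193 (nat_lit 64) (nat_lit 18446744073709551615) = true := by decide +kernel
noncomputable def t192 : ℕ := nat_lit 0x2830883078480008286818786060000e703048682058b80e
theorem n192 : fullChk J.E [L0, L1, L2, L3, L4, L5, L6] R [nat_lit 184, nat_lit 0, nat_lit 16, nat_lit 24, nat_lit 8, nat_lit 96] t192 (nat_lit 64) (nat_lit 18446744073709551615) = true := by decide +kernel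
noncomputable def t191 : ℕ := nat_lit 0x28a870184800000888b088804840b00e289860308888880e
theorem n191 : fullChk J.E [L0, L1, L2, L3, L4, L5, L6] R [nat_lit 184, nat_lit 0, nat_lit 16, nat_lit 24, nat_lit 8, nat_lit 144] t191 (nat_lit 64) (nat_lit 18446744073709551615) = true := by decide +kernel
noncomputable def t190 : ℕ := nat_lit 0x888020389800b80e883890206000300e884828208000500e
theorem n190 : fullChk J.E [L0, L1, L2, L3, L4, L5, L6] R [nat_lit 184, nat_lit 0, nat_lit 16, nat_lit 24, nat_lit 8, nat_lit 32] t190 (nat_lit 64) (nat_lit 18446744073709551615) = true := by decide +kernel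
noncomputable def t189 : ℕ := nat_lit 0x2111211100000021001100002121001111000000000000
theorem n189 : redChk J.E [L0, L1, L2, L3, L4, L5, L6] J.AV [nat_lit 184, nat_lit 0, nat_lit 16, nat_lit 24, nat_lit 8] [nat_lit 31560485111857336] t189 [nat_lit 32, nat_lit 144, nat_lit 96, nat_lit 64, nat_lit 88, nat_lit 128] = true := by decide +kernel
noncomputable def t188 : ℕ := nat_lit 0x2242112113123342114132223323213323000000000000
theorem n188 : redChk J.E [L0, L1, L2, L3, L4, L5, L6] J.AV [nat_lit 184, nat_lit 0, nat_lit 16, nat_lit 24] [nat_lit 38439029855223992, nat_lit 11435024277045432, nat_lit 38456622041268408] t188 [nat_lit 8, nat_lit 32, nat_lit 40] = true := by decide +kernel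
noncomputable def t187 : ℕ := nat_lit 0x882028b0a82800077090a0507058280c889890783870b80c889068a09800b807284850b04880b80c28a05018b088980c887840284000b80728584868a8a8b80c284830b058280007705828187850000c705820684838b80c7098283048a0b80c7020804888280007882028509088500c284018580840000c2840a0b06850b80c7050a0a83000b807882080788080280c28309880b058b80c7058a860b000b807282090203098000c284850482000b80728b028485098b80c28a09880b0a0b80c287890401028200f8878682090a0b80c885890509878200c287838180800700f708090480890400c28606060a068a80c8840a0804898280f283068903800b80728806068b0280007889898202830b80c7020a0689088280c283068909000b80788209848b000b80728984810b088700c28684040a000b8072848b0807058b80c28b088206010280c28786838b020b00c284088a04000b8072820b048b000b80728b090188088400f88b01830b0a0b80c2868a0688868b80c289820b04000b807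
theorem n187 : fullChk J.E [L0, L1, L2, L3, L4, L5, L6] R [nat_lit 184, nat_lit 0, nat_lit 16, nat_lit 8, nat_lit 136] t187 (nat_lit 64) (nat_lit 18446744073709551615) = true := by decide +kernel
noncomputable def t186 : ℕ := nat_lit 0x888018403000b807289818a0a000b8072898603880780008
theorem n186 : fullChk J.E [L0, L1, L2, L3, L4, L5, L6] R [nat_lit 184, nat_lit 0, nat_lit 16, nat_lit 8, nat_lit 32, nat_lit 160] t186 (nat_lit 64) (nat_lit 18446744073709551615) = true := by decide +kernel
noncomputable def t185 : ℕ := nat_lit 0x704080488000b807286890106820000888989840a000b807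
theorem n185 : fullChk J.E [L0, L1, L2, L3, L4, L5, L6] R [nat_lit 184, nat_lit 0, nat_lit 16, nat_lit 8, nat_lit 32, nat_lit 64] t185 (nat_lit 64) (nat_lit 18446744073709551615) = true := by decide +kernel
noncomputable def t184 : ℕ := nat_lit 0x28a828607080b808886838703870b80c887850a80840600c
theorem n184 : fullChk J.E [L0, L1, L2, L3, L4, L5, L6] R [nat_lit 184, nat_lit 0, nat_lit 16, nat_lit 8, nat_lit 32, nat_lit 56] t184 (nat_lit 64) (nat_lit 18446744073709551615) = true := by decide +kernel
noncomputable def t183 : ℕ := nat_lit 0x7098604060a8b8087078705808a0000c2880a0988878300c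
theorem n183 : fullChk J.E [L0, L1, L2, L3, L4, L5, L6] R [nat_lit 184, nat_lit 0, nat_lit 16, nat_lit 8, nat_lit 32, nat_lit 120] t183 (nat_lit 64) (nat_lit 18446744073709551615) = true := by decide +kernel
noncomputable def t182 : ℕ := nat_lit 0x283028102060b80888a040a090b0b80c886018781820b808
theorem n182 : fullChk J.E [L0, L1, L2, L3, L4, L5, L6] R [nat_lit 184, nat_lit 0, nat_lit 16, nat_lit 8, nat_lit 32, nat_lit 136] t182 (nat_lit 64) (nat_lit 18446744073709551615) = true := by decide +kernel
noncomputable def t181 : ℕ := nat_lit 0x8840287080a0b808702030b04048b808289888788860b80f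
theorem n181 : fullChk J.E [L0, L1, L2, L3, L4, L5, L6] R [nat_lit 184, nat_lit 0, nat_lit 16, nat_lit 8, nat_lit 32, nat_lit 24] t181 (nat_lit 64) (nat_lit 18446744073709551615) = true := by decide +kernel
noncomputable def t180 : ℕ := nat_lit 0x11002111000000210021111121000021110000000000
theorem n180 : redChk J.E [L0, L1, L2, L3, L4, L5, L6] J.AV [nat_lit 184, nat_lit 0, nat_lit 16, nat_lit 8, nat_lit 32] [nat_lit 31560485111857336] t180 [nat_lit 24, nat_lit 136, nat_lit 120, nat_lit 56, nat_lit 64, nat_lit 160] = true := by decide +kernel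
noncomputable def t179 : ℕ := nat_lit 0x28206098a018b00f28b090a0a038180c2880a038a038180c
theorem n179 : fullChk J.E [L0, L1, L2, L3, L4, L5, L6] R [nat_lit 184, nat_lit 0, nat_lit 16, nat_lit 8, nat_lit 24, nat_lit 104] t179 (nat_lit 64) (nat_lit 18446744073709551615) = true := by decide +kernel
noncomputable def t178 : ℕ := nat_lit 0x884890504058180c286068685038b80c8898a0585848b80c
theorem n178 : fullChk J.E [L0, L1, L2, L3, L4, L5, L6] R [nat_lit 184, nat_lit 0, nat_lit 16, nat_lit 8, nat_lit 24, nat_lit 152] t178 (nat_lit 64) (nat_lit 18446744073709551615) = true := by decide +kernel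
noncomputable def t177 : ℕ := nat_lit 0x70b050706060b80c708080385868b80c8838885820b0180c
theorem n177 : fullChk J.E [L0, L1, L2, L3, L4, L5, L6] R [nat_lit 184, nat_lit 0, nat_lit 16, nat_lit 8, nat_lit 24, nat_lit 168] t177 (nat_lit 64) (nat_lit 18446744073709551615) = true := by decide +kernel
noncomputable def t176 : ℕ := nat_lit 0x70a070a03878b80c709070808880700c88408890a800380f
theorem n176 : fullChk J.E [L0, L1, L2, L3, L4, L5, L6] R [nat_lit 184, nat_lit 0, nat_lit 16, nat_lit 8, nat_lit 24, nat_lit 80] t176 (nat_lit 64) (nat_lit 18446744073709551615) = true := by decide +kernel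
noncomputable def t175 : ℕ := nat_lit 0x886048209870700c28687010a058180c7090a8882038280f
theorem n175 : fullChk J.E [L0, L1, L2, L3, L4, L5, L6] R [nat_lit 184, nat_lit 0, nat_lit 16, nat_lit 8, nat_lit 24, nat_lit 144] t175 (nat_lit 64) (nat_lit 18446744073709551615) = true := by decide +kernel
noncomputable def t174 : ℕ := nat_lit 0x28a018883018700f7040a8206078b80f885018907028280f
theorem n174 : fullChk J.E [L0, L1, L2, L3, L4, L5, L6] R [nat_lit 184, nat_lit 0, nat_lit 16, nat_lit 8, nat_lit 24, nat_lit 32] t174 (nat_lit 64) (nat_lit 18446744073709551615) = true := by decide +kernel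
noncomputable def t173 : ℕ := nat_lit 0x2100210000001111000021110021111121000000000000
theorem n173 : redChk J.E [L0, L1, L2, L3, L4, L5, L6] J.AV [nat_lit 184, nat_lit 0, nat_lit 16, nat_lit 8, nat_lit 24] [nat_lit 38315884552913080] t173 [nat_lit 32, nat_lit 144, nat_lit 80, nat_lit 168, nat_lit 152, nat_lit 104] = true := by decide +kernel
noncomputable def t172 : ℕ := nat_lit 0x3333232222002112123221431133221343130000000000
theorem n172 : redChk J.E [L0, L1, L2, L3, L4, L5, L6] J.AV [nat_lit 184, nat_lit 0, nat_lit 16, nat_lit 8] [nat_lit 11320675067756728, nat_lit 38412641576157368, nat_lit 38368661111046328] t172 [nat_lit 24, nat_lit 32, nat_lit 136] = true := by decide +kernel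
noncomputable def t171 : ℕ := nat_lit 0x3121525242414132211222311132312241323200000000
theorem n171 : redChk J.E [L0, L1, L2, L3, L4, L5, L6] J.AV [nat_lit 184, nat_lit 0, nat_lit 16] [nat_lit 11452960060473528, nat_lit 31604706095136952] t171 [nat_lit 8, nat_lit 24] = true := by decide +kernel
noncomputable def t170 : ℕ := nat_lit 0x703870a8b080080d286828284800b80e286018184028680d70a020a89000b80d889878486000b80e708058a81058000d889860102800080d889890a08078b80e28a098b00800b80d289088400828000d886050888038b80d8820705870b0080e88604040b080b80d70a04098a000b80d885880307800880e283820986008b80d885828182800080d284088381088b80e2838a8204888080e88a0b0301068080d28a820183078400d2838a028b058b80d284878402080b80d886850105060b80e708070789000880e88a840682098b80d7098781898b0b80d704870204870880e709888382848b80d88a058982800080d707878987008000e289828588828080d706060a87828000d284098803000a80d2850b0185080b80e2880a0883808300d702018780800300d287828405008700e88907058a050b80d886058a82800080d887870181000880e883018303008b80d282098688828080d70b0a8b04800b80d888090188020700e708088387870b80e284858302800380d709870207828000d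
theorem n170 : fullChk J.E [L0, L1, L2, L3, L4, L5, L6] R [nat_lit 184, nat_lit 0, nat_lit 8, nat_lit 24, nat_lit 40] t170 (nat_lit 64) (nat_lit 18446744073709551615) = true := by decide +kernel
noncomputable def t169 : ℕ := nat_lit 0x88a03070a800b80a886890a08800080a886860608800b80a
theorem n169 : fullChk J.E [L0, L1, L2, L3, L4, L5, L6] R [nat_lit 184, nat_lit 0, nat_lit 8, nat_lit 24, nat_lit 32, nat_lit 104] t169 (nat_lit 64) (nat_lit 18446744073709551615) = true := by decide +kernel
noncomputable def t168 : ℕ := nat_lit 0x289840b01870b80c709098580800b80d28589868a800b80d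
theorem n168 : fullChk J.E [L0, L1, L2, L3, L4, L5, L6] R [nat_lit 184, nat_lit 0, nat_lit 8, nat_lit 24, nat_lit 32, nat_lit 72] t168 (nat_lit 64) (nat_lit 18446744073709551615) = true := by decide +kernel
noncomputable def t167 : ℕ := nat_lit 0x88a8a83020b0b80c28b058904808b80d288070508038b80d
theorem n167 : fullChk J.E [L0, L1, L2, L3, L4, L5, L6] R [nat_lit 184, nat_lit 0, nat_lit 8, nat_lit 24, nat_lit 32, nat_lit 80] t167 (nat_lit 64) (nat_lit 18446744073709551615) = true := by decide +kernel
noncomputable def t166 : ℕ := nat_lit 0x884898303078b80d70a850582848b80c282030103030b80d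
theorem n166 : fullChk J.E [L0, L1, L2, L3, L4, L5, L6] R [nat_lit 184, nat_lit 0, nat_lit 8, nat_lit 24, nat_lit 32, nat_lit 144] t166 (nat_lit 64) (nat_lit 18446744073709551615) = true := by decide +kernel
noncomputable def t165 : ℕ := nat_lit 0x284028207808b80b703858684008b80b7060a8b06000080b
theorem n165 : fullChk J.E [L0, L1, L2, L3, L4, L5, L6] R [nat_lit 184, nat_lit 0, nat_lit 8, nat_lit 24, nat_lit 32, nat_lit 112] t165 (nat_lit 64) (nat_lit 18446744073709551615) = true := by decide +kernel
noncomputable def t164 : ℕ := nat_lit 0x2890a0188088000e2820a8203000b80e283888188820900e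
theorem n164 : fullChk J.E [L0, L1, L2, L3, L4, L5, L6] R [nat_lit 184, nat_lit 0, nat_lit 8, nat_lit 24, nat_lit 32, nat_lit 16] t164 (nat_lit 64) (nat_lit 18446744073709551615) = true := by decide +kernel
noncomputable def t163 : ℕ := nat_lit 0x1121000000112121000011000000112111210000000000
theorem n163 : redChk J.E [L0, L1, L2, L3, L4, L5, L6] J.AV [nat_lit 184, nat_lit 0, nat_lit 8, nat_lit 24, nat_lit 32] [nat_lit 31560485111857336] t163 [nat_lit 16, nat_lit 112, nat_lit 144, nat_lit 80, nat_lit 72, nat_lit 104] = true := by decide +kernel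
noncomputable def t162 : ℕ := nat_lit 0x284888908860280c884868808878b80c283038a07030880c
theorem n162 : fullChk J.E [L0, L1, L2, L3, L4, L5, L6] R [nat_lit 184, nat_lit 0, nat_lit 8, nat_lit 24, nat_lit 16, nat_lit 104] t162 (nat_lit 64) (nat_lit 18446744073709551615) = true := by decide +kernel
noncomputable def t161 : ℕ := nat_lit 0x70387898b0a0b80c88409018b0a0880c88b0a8206038b80c
theorem n161 : fullChk J.E [L0, L1, L2, L3, L4, L5, L6] R [nat_lit 184, nat_lit 0, nat_lit 8, nat_lit 24, nat_lit 16, nat_lit 88] t161 (nat_lit 64) (nat_lit 18446744073709551615) = true := by decide +kernel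
noncomputable def t160 : ℕ := nat_lit 0x88486050a0a8080c283888802090000f882068a8a0a8080c
theorem n160 : fullChk J.E [L0, L1, L2, L3, L4, L5, L6] R [nat_lit 184, nat_lit 0, nat_lit 8, nat_lit 24, nat_lit 16, nat_lit 64] t160 (nat_lit 64) (nat_lit 18446744073709551615) = true := by decide +kernel
noncomputable def t159 : ℕ := nat_lit 0x70a068702080b80c70688830b058b80c883018589808b80f
theorem n159 : fullChk J.E [L0, L1, L2, L3, L4, L5, L6] R [nat_lit 184, nat_lit 0, nat_lit 8, nat_lit 24, nat_lit 16, nat_lit 96] t159 (nat_lit 64) (nat_lit 18446744073709551615) = true := by decide +kernel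
noncomputable def t158 : ℕ := nat_lit 0x88307830a068b80c88386818b080b80c708028883800580f
theorem n158 : fullChk J.E [L0, L1, L2, L3, L4, L5, L6] R [nat_lit 184, nat_lit 0, nat_lit 8, nat_lit 24, nat_lit 16, nat_lit 144] t158 (nat_lit 64) (nat_lit 18446744073709551615) = true := by decide +kernel
noncomputable def t157 : ℕ := nat_lit 0x283088103848300f88481818a840080f283020a06840000f
theorem n157 : fullChk J.E [L0, L1, L2, L3, L4, L5, L6] R [nat_lit 184, nat_lit 0, nat_lit 8, nat_lit 24, nat_lit 16, nat_lit 32] t157 (nat_lit 64) (nat_lit 18446744073709551615) = true := by decide +kernel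
noncomputable def t156 : ℕ := nat_lit 0x1111211100002121000000002121001111000000000000
theorem n156 : redChk J.E [L0, L1, L2, L3, L4, L5, L6] J.AV [nat_lit 184, nat_lit 0, nat_lit 8, nat_lit 24, nat_lit 16] [nat_lit 31560485111857336] t156 [nat_lit 32, nat_lit 144, nat_lit 96, nat_lit 64, nat_lit 88, nat_lit 104] = true := by decide +kernel
noncomputable def t155 : ℕ := nat_lit 0x3312233132113121212232322123321133000000000000
theorem n155 : redChk J.E [L0, L1, L2, L3, L4, L5, L6] J.AV [nat_lit 184, nat_lit 0, nat_lit 8, nat_lit 24] [nat_lit 38465418134290616, nat_lit 11443820370067640, nat_lit 31586873390923960] t155 [nat_lit 16, nat_lit 32, nat_lit 40] = true := by decide +kernel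
noncomputable def t154 : ℕ := nat_lit 0x287850189000380e289868607048100e287878103800000c7068189050a8100e28a078802000080e885818987878000c282018307038500e2878989828b0400e2820a8a07838b80c70a050804848000f88a860987828b80e882040a81008700e88487880a840b80c88202880b0a8900e286818904010b80e8820a88048a0080c8860a81098a8100e289850509858700e706060103830100e7020705020b0080c708040a80860600e286050a07838b80c8898407020a8000e8830301088a8100e708078280870080e283078208000b80f7068b010b058100e885088203008b80e886858180828300f709878a08000280e70a020306830000e28506830b020b80c28b0388008a8100e284818a08098080e882090681880080e286848607850b80c28a018188858000e289830204810580e28b088103040100c883890389850280e28787810a810b80e88b058808040b80f886860883848b80c2840a0787800b80e887818a85838000e288060905008700e286870308068b80c885860608010b80e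
theorem n154 : fullChk J.E [L0, L1, L2, L3, L4, L5, L6] R [nat_lit 184, nat_lit 0, nat_lit 8, nat_lit 16, nat_lit 136] t154 (nat_lit 64) (nat_lit 18446744073709551615) = true := by decide +kernel
noncomputable def t153 : ℕ := nat_lit 0x2860a0885028080e705898a80838000d70206858a070080d
theorem n153 : fullChk J.E [L0, L1, L2, L3, L4, L5, L6] R [nat_lit 184, nat_lit 0, nat_lit 8, nat_lit 16, nat_lit 32, nat_lit 152] t153 (nat_lit 64) (nat_lit 18446744073709551615) = true := by decide +kernel
noncomputable def t152 : ℕ := nat_lit 0x704050a00800b80d883890402800080d88a818502000a80e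
theorem n152 : fullChk J.E [L0, L1, L2, L3, L4, L5, L6] R [nat_lit 184, nat_lit 0, nat_lit 8, nat_lit 16, nat_lit 32, nat_lit 72] t152 (nat_lit 64) (nat_lit 18446744073709551615) = true := by decide +kernel
noncomputable def t151 : ℕ := nat_lit 0x883878886028080d282020304058000e282020281058000d
theorem n151 : fullChk J.E [L0, L1, L2, L3, L4, L5, L6] R [nat_lit 184, nat_lit 0, nat_lit 8, nat_lit 16, nat_lit 32, nat_lit 80] t151 (nat_lit 64) (nat_lit 18446744073709551615) = true := by decide +kernel
noncomputable def t150 : ℕ := nat_lit 0x289088a05010b80d8820284070b0300e702030988828080d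
theorem n150 : fullChk J.E [L0, L1, L2, L3, L4, L5, L6] R [nat_lit 184, nat_lit 0, nat_lit 8, nat_lit 16, nat_lit 32, nat_lit 144] t150 (nat_lit 64) (nat_lit 18446744073709551615) = true := by decide +kernel
noncomputable def t149 : ℕ := nat_lit 0x28b0183838a8000c888090300808100c70489018a060080c
theorem n149 : fullChk J.E [L0, L1, L2, L3, L4, L5, L6] R [nat_lit 184, nat_lit 0, nat_lit 8, nat_lit 16, nat_lit 32, nat_lit 112] t149 (nat_lit 64) (nat_lit 18446744073709551615) = true := by decide +kernel
noncomputable def t148 : ℕ := nat_lit 0x88781848a850a00f285098686800b80f28a860888000a80f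
theorem n148 : fullChk J.E [L0, L1, L2, L3, L4, L5, L6] R [nat_lit 184, nat_lit 0, nat_lit 8, nat_lit 16, nat_lit 32, nat_lit 24] t148 (nat_lit 64) (nat_lit 18446744073709551615) = true := by decide +kernel
noncomputable def t147 : ℕ := nat_lit 0x21110000110021000011210000112111210000000000
theorem n147 : redChk J.E [L0, L1, L2, L3, L4, L5, L6] J.AV [nat_lit 184, nat_lit 0, nat_lit 8, nat_lit 16, nat_lit 32] [nat_lit 31560485111857336] t147 [nat_lit 24, nat_lit 112, nat_lit 144, nat_lit 80, nat_lit 72, nat_lit 152] = true := by decide +kernel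
noncomputable def t146 : ℕ := nat_lit 0x88a870102850100e28a088a84010880f285088480848100e
theorem n146 : fullChk J.E [L0, L1, L2, L3, L4, L5, L6] R [nat_lit 184, nat_lit 0, nat_lit 8, nat_lit 16, nat_lit 24, nat_lit 104] t146 (nat_lit 64) (nat_lit 18446744073709551615) = true := by decide +kernel
noncomputable def t145 : ℕ := nat_lit 0x70a048a02880180f28a0701060a0a00e882020588858b80e
theorem n145 : fullChk J.E [L0, L1, L2, L3, L4, L5, L6] R [nat_lit 184, nat_lit 0, nat_lit 8, nat_lit 16, nat_lit 24, nat_lit 152] t145 (nat_lit 64) (nat_lit 18446744073709551615) = true := by decide +kernel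
noncomputable def t144 : ℕ := nat_lit 0x7050b0a84800b80e88a040582838000e2848981098a0280f
theorem n144 : fullChk J.E [L0, L1, L2, L3, L4, L5, L6] R [nat_lit 184, nat_lit 0, nat_lit 8, nat_lit 16, nat_lit 24, nat_lit 72] t144 (nat_lit 64) (nat_lit 18446744073709551615) = true := by decide +kernel
noncomputable def t143 : ℕ := nat_lit 0x887828504878600e286058a82870080f886860387050b80e
theorem n143 : fullChk J.E [L0, L1, L2, L3, L4, L5, L6] R [nat_lit 184, nat_lit 0, nat_lit 8, nat_lit 16, nat_lit 24, nat_lit 56] t143 (nat_lit 64) (nat_lit 18446744073709551615) = true := by decide +kernel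
noncomputable def t142 : ℕ := nat_lit 0x288088a0b0a8100e7098a8906008300e88a080702000280f
theorem n142 : fullChk J.E [L0, L1, L2, L3, L4, L5, L6] R [nat_lit 184, nat_lit 0, nat_lit 8, nat_lit 16, nat_lit 24, nat_lit 120] t142 (nat_lit 64) (nat_lit 18446744073709551615) = true := by decide +kernel
noncomputable def t141 : ℕ := nat_lit 0x28b040106058180e70a868807018b80e2858683058508810
theorem n141 : fullChk J.E [L0, L1, L2, L3, L4, L5, L6] R [nat_lit 184, nat_lit 0, nat_lit 8, nat_lit 16, nat_lit 24, nat_lit 32] t141 (nat_lit 64) (nat_lit 18446744073709551615) = true := by decide +kernel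
noncomputable def t140 : ℕ := nat_lit 0x1121110011002100000021211100110021000000000000
theorem n140 : redChk J.E [L0, L1, L2, L3, L4, L5, L6] J.AV [nat_lit 184, nat_lit 0, nat_lit 8, nat_lit 16, nat_lit 24] [nat_lit 31560485111857336] t140 [nat_lit 32, nat_lit 120, nat_lit 56, nat_lit 72, nat_lit 152, nat_lit 104] = true := by decide +kernel
noncomputable def t139 : ℕ := nat_lit 0x3132213222002223131123331333324242120000000000
theorem n139 : redChk J.E [L0, L1, L2, L3, L4, L5, L6] J.AV [nat_lit 184, nat_lit 0, nat_lit 8, nat_lit 16] [nat_lit 31613261669990584, nat_lit 11373451625889976, nat_lit 38395049390112952] t139 [nat_lit 24, nat_lit 32, nat_lit 136] = true := by decide +kernel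
noncomputable def t138 : ℕ := nat_lit 0x3211415142422141512142413131513112223200000000
theorem n138 : redChk J.E [L0, L1, L2, L3, L4, L5, L6] J.AV [nat_lit 184, nat_lit 0, nat_lit 8] [nat_lit 38447929027461304, nat_lit 11356477915136184] t138 [nat_lit 16, nat_lit 24] = true := by decide +kernel
noncomputable def t137 : ℕ := nat_lit 0x4111413121223241413222312142323212424242000000
theorem n137 : redChk J.E [L0, L1, L2, L3, L4, L5, L6] J.AV [nat_lit 184, nat_lit 0] [nat_lit 38448204442239160, nat_lit 38474663454048440] t137 [nat_lit 8, nat_lit 16] = true := by decide +kernel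
noncomputable def t136 : ℕ := nat_lit 0x3232315241523112422141413242515122512111620000
theorem n136 : redChk J.E [L0, L1, L2, L3, L4, L5, L6] J.AV [nat_lit 184] [nat_lit 31631371541151928, nat_lit 31596324467507384] t136 [nat_lit 0, nat_lit 8] = true := by decide +kernel
noncomputable def t135 : ℕ := nat_lit 0x285098202040300828a8682048b0700728386078089800112860684020709008282078b040b07007885028a82010001170a050788048b811703848188888280c28b030a07080b81170389888087030088860602088382008284078507068200c70a0a0908848b811287858985888a808284830785848700c883830208888400870407010a880b8118890184888a8680c2890a040403028072820402058403808286840780898b811884860804038b81188783030b0385808282088907030700c284828108830280728a0a8909058b8117058588820a8b8117058201088302807883078583038b811286850702858b8118838185070b07007703870407080a808289088409068500828681858406800118898a81050b0700728a020308018600870b028a87848b811704878a08820280c2838609018a8001128986028b03878087090a0a8b078700c88782840481058088850905058a09008284058885040400828403068483028072878882068a0280c70a0408848689808287868405858b811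
theorem n135 : fullChk J.E [L0, L1, L2, L3, L4, L5, L6] R [nat_lit 0, nat_lit 184, nat_lit 16, nat_lit 24, nat_lit 136] t135 (nat_lit 64) (nat_lit 18446744073709551615) = true := by decide +kernel
noncomputable def t134 : ℕ := nat_lit 0x284818287848981228a84078908868122858b04870103008
theorem n134 : fullChk J.E [L0, L1, L2, L3, L4, L5, L6] R [nat_lit 0, nat_lit 184, nat_lit 16, nat_lit 24, nat_lit 32, nat_lit 104] t134 (nat_lit 64) (nat_lit 18446744073709551615) = true := by decide +kernel
noncomputable def t133 : ℕ := nat_lit 0x8838187858a860018860886008a890017098508810006802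
theorem n133 : fullChk J.E [L0, L1, L2, L3, L4, L5, L6] R [nat_lit 0, nat_lit 184, nat_lit 16, nat_lit 24, nat_lit 32, nat_lit 88] t133 (nat_lit 64) (nat_lit 18446744073709551615) = true := by decide +kernel
noncomputable def t132 : ℕ := nat_lit 0x287890787898b811703890a81838181270b0301098086807
theorem n132 : fullChk J.E [L0, L1, L2, L3, L4, L5, L6] R [nat_lit 0, nat_lit 184, nat_lit 16, nat_lit 24, nat_lit 32, nat_lit 56] t132 (nat_lit 64) (nat_lit 18446744073709551615) = true := by decide +kernel
noncomputable def t131 : ℕ := nat_lit 0x288030782080b00728987050a840901228a0682040a0b811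
theorem n131 : fullChk J.E [L0, L1, L2, L3, L4, L5, L6] R [nat_lit 0, nat_lit 184, nat_lit 16, nat_lit 24, nat_lit 32, nat_lit 144] t131 (nat_lit 64) (nat_lit 18446744073709551615) = true := by decide +kernel
noncomputable def t130 : ℕ := nat_lit 0x283080785058a0012840485888003002887830a8a0786002
theorem n130 : fullChk J.E [L0, L1, L2, L3, L4, L5, L6] R [nat_lit 0, nat_lit 184, nat_lit 16, nat_lit 24, nat_lit 32, nat_lit 136] t130 (nat_lit 64) (nat_lit 18446744073709551615) = true := by decide +kernel
noncomputable def t129 : ℕ := nat_lit 0x28a060183068b8112898909820983013705030306870b811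
theorem n129 : fullChk J.E [L0, L1, L2, L3, L4, L5, L6] R [nat_lit 0, nat_lit 184, nat_lit 16, nat_lit 24, nat_lit 32, nat_lit 8] t129 (nat_lit 64) (nat_lit 18446744073709551615) = true := by decide +kernel
noncomputable def t128 : ℕ := nat_lit 0x2100112100001111110011002100000021210000000000
theorem n128 : redChk J.E [L0, L1, L2, L3, L4, L5, L6] J.AV [nat_lit 0, nat_lit 184, nat_lit 16, nat_lit 24, nat_lit 32] [nat_lit 38315884552913080] t128 [nat_lit 8, nat_lit 136, nat_lit 144, nat_lit 56, nat_lit 88, nat_lit 104] = true := by decide +kernel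
noncomputable def t127 : ℕ := nat_lit 0x7080781008486008282058a858984008286890b078609008
theorem n127 : fullChk J.E [L0, L1, L2, L3, L4, L5, L6] R [nat_lit 0, nat_lit 184, nat_lit 16, nat_lit 24, nat_lit 8, nat_lit 104] t127 (nat_lit 64) (nat_lit 18446744073709551615) = true := by decide +kernel
noncomputable def t126 : ℕ := nat_lit 0x2898a880a04888087038a898187028082868707008187008
theorem n126 : fullChk J.E [L0, L1, L2, L3, L4, L5, L6] R [nat_lit 0, nat_lit 184, nat_lit 16, nat_lit 24, nat_lit 8, nat_lit 160] t126 (nat_lit 64) (nat_lit 18446744073709551615) = true := by decide +kernel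
noncomputable def t125 : ℕ := nat_lit 0x28502818506870088878787890a088082820806058882808
theorem n125 : fullChk J.E [L0, L1, L2, L3, L4, L5, L6] R [nat_lit 0, nat_lit 184, nat_lit 16, nat_lit 24, nat_lit 8, nat_lit 64] t125 (nat_lit 64) (nat_lit 18446744073709551615) = true := by decide +kernel
noncomputable def t124 : ℕ := nat_lit 0x8820b028a87028082858b0a8081870088830605050588808
theorem n124 : fullChk J.E [L0, L1, L2, L3, L4, L5, L6] R [nat_lit 0, nat_lit 184, nat_lit 16, nat_lit 24, nat_lit 8, nat_lit 96] t124 (nat_lit 64) (nat_lit 18446744073709551615) = true := by decide +kernel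
noncomputable def t123 : ℕ := nat_lit 0x2858886898102808282020287048700888988888a8a08808
theorem n123 : fullChk J.E [L0, L1, L2, L3, L4, L5, L6] R [nat_lit 0, nat_lit 184, nat_lit 16, nat_lit 24, nat_lit 8, nat_lit 144] t123 (nat_lit 64) (nat_lit 18446744073709551615) = true := by decide +kernel
noncomputable def t122 : ℕ := nat_lit 0x889080981800200870684838080020082838509008b02008
theorem n122 : fullChk J.E [L0, L1, L2, L3, L4, L5, L6] R [nat_lit 0, nat_lit 184, nat_lit 16, nat_lit 24, nat_lit 8, nat_lit 32] t122 (nat_lit 64) (nat_lit 18446744073709551615) = true := by decide +kernel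
noncomputable def t121 : ℕ := nat_lit 0x2121001100001111000000211111002121000000000000
theorem n121 : redChk J.E [L0, L1, L2, L3, L4, L5, L6] J.AV [nat_lit 0, nat_lit 184, nat_lit 16, nat_lit 24, nat_lit 8] [nat_lit 38315884552913080] t121 [nat_lit 32, nat_lit 144, nat_lit 96, nat_lit 64, nat_lit 160, nat_lit 104] = true := by decide +kernel
noncomputable def t120 : ℕ := nat_lit 0x1223223123003111213133332132322213110000000000
theorem n120 : redChk J.E [L0, L1, L2, L3, L4, L5, L6] J.AV [nat_lit 0, nat_lit 184, nat_lit 16, nat_lit 24] [nat_lit 38333476738957496, nat_lit 31718814786257080, nat_lit 31657242135101624] t120 [nat_lit 8, nat_lit 32, nat_lit 136] = true := by decide +kernel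
noncomputable def t119 : ℕ := nat_lit 0x70789088888828082890a8388898580870206898081088138830187860202808884888101048700828785820983028138820a05838103008286090984080a0088838903040700813887828200898701428a88830a0582808882018b018587008286028709850480f8898607008002008702030800838700828a8203888b0701328206818888828082880187010487008287848389020700888a068687890580f28b09090a8a82808885028a8288840142848a88840488008889860608070680888983080406070082840a82098a840148890b078709828082860508028a870082848a04070606814885088684098900828384070984870087040907068302813884888a098a8380828a81858785828082848902018887008289078684080881470a818101880a8088890b0282040700828b088a89010181388506010704860088898503078387008706860185070701428b018a0583028137080b0709848280828a8a820906870088868a88808509008709818488870081370a8a028b0a82808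
theorem n119 : fullChk J.E [L0, L1, L2, L3, L4, L5, L6] R [nat_lit 0, nat_lit 184, nat_lit 16, nat_lit 8, nat_lit 136] t119 (nat_lit 64) (nat_lit 18446744073709551615) = true := by decide +kernel
noncomputable def t118 : ℕ := nat_lit 0x88a0a8586078581288903010706838087098301018204012
theorem n118 : fullChk J.E [L0, L1, L2, L3, L4, L5, L6] R [nat_lit 0, nat_lit 184, nat_lit 16, nat_lit 8, nat_lit 32, nat_lit 88] t118 (nat_lit 64) (nat_lit 18446744073709551615) = true := by decide +kernel
noncomputable def t117 : ℕ := nat_lit 0x28a8182868306012287840408848a8127060b028a8006008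
theorem n117 : fullChk J.E [L0, L1, L2, L3, L4, L5, L6] R [nat_lit 0, nat_lit 184, nat_lit 16, nat_lit 8, nat_lit 32, nat_lit 168] t117 (nat_lit 64) (nat_lit 18446744073709551615) = true := by decide +kernel
noncomputable def t116 : ℕ := nat_lit 0x28a88830a058580828404088084050122838a87008586812
theorem n116 : fullChk J.E [L0, L1, L2, L3, L4, L5, L6] R [nat_lit 0, nat_lit 184, nat_lit 16, nat_lit 8, nat_lit 32, nat_lit 80] t116 (nat_lit 64) (nat_lit 18446744073709551615) = true := by decide +kernel
noncomputable def t115 : ℕ := nat_lit 0x88a08888904040088838a878302058122898384010384012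
theorem n115 : fullChk J.E [L0, L1, L2, L3, L4, L5, L6] R [nat_lit 0, nat_lit 184, nat_lit 16, nat_lit 8, nat_lit 32, nat_lit 120] t115 (nat_lit 64) (nat_lit 18446744073709551615) = true := by decide +kernel
noncomputable def t114 : ℕ := nat_lit 0x287890307848400c28485888b038981328a0783078087813
theorem n114 : fullChk J.E [L0, L1, L2, L3, L4, L5, L6] R [nat_lit 0, nat_lit 184, nat_lit 16, nat_lit 8, nat_lit 32, nat_lit 40] t114 (nat_lit 64) (nat_lit 18446744073709551615) = true := by decide +kernel
noncomputable def t113 : ℕ := nat_lit 0x7078486008987814284880405820b8148850a81088a82014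
theorem n113 : fullChk J.E [L0, L1, L2, L3, L4, L5, L6] R [nat_lit 0, nat_lit 184, nat_lit 16, nat_lit 8, nat_lit 32, nat_lit 24] t113 (nat_lit 64) (nat_lit 18446744073709551615) = true := by decide +kernel
noncomputable def t112 : ℕ := nat_lit 0x112121110000210021000021111111000000000000
theorem n112 : redChk J.E [L0, L1, L2, L3, L4, L5, L6] J.AV [nat_lit 0, nat_lit 184, nat_lit 16, nat_lit 8, nat_lit 32] [nat_lit 38315884552913080] t112 [nat_lit 24, nat_lit 40, nat_lit 120, nat_lit 80, nat_lit 168, nat_lit 88] = true := by decide +kernel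
noncomputable def t111 : ℕ := nat_lit 0x70a0a01810a0180f2820a81838a018088838505840701808
theorem n111 : fullChk J.E [L0, L1, L2, L3, L4, L5, L6] R [nat_lit 0, nat_lit 184, nat_lit 16, nat_lit 8, nat_lit 24, nat_lit 128] t111 (nat_lit 64) (nat_lit 18446744073709551615) = true := by decide +kernel
noncomputable def t110 : ℕ := nat_lit 0x28401888285018082820788088581808709090881848880c
theorem n110 : fullChk J.E [L0, L1, L2, L3, L4, L5, L6] R [nat_lit 0, nat_lit 184, nat_lit 16, nat_lit 8, nat_lit 24, nat_lit 160] t110 (nat_lit 64) (nat_lit 18446744073709551615) = true := by decide +kernel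
noncomputable def t109 : ℕ := nat_lit 0x2890585848481808286890b0a898700c884888b098a83808
theorem n109 : fullChk J.E [L0, L1, L2, L3, L4, L5, L6] R [nat_lit 0, nat_lit 184, nat_lit 16, nat_lit 8, nat_lit 24, nat_lit 64] t109 (nat_lit 64) (nat_lit 18446744073709551615) = true := by decide +kernel
noncomputable def t108 : ℕ := nat_lit 0x889870300860180c7030a810086818082898188880581808
theorem n108 : fullChk J.E [L0, L1, L2, L3, L4, L5, L6] R [nat_lit 0, nat_lit 184, nat_lit 16, nat_lit 8, nat_lit 24, nat_lit 96] t108 (nat_lit 64) (nat_lit 18446744073709551615) = true := by decide +kernel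
noncomputable def t107 : ℕ := nat_lit 0x889838980868180828a068201098880c289840505840a008
theorem n107 : fullChk J.E [L0, L1, L2, L3, L4, L5, L6] R [nat_lit 0, nat_lit 184, nat_lit 16, nat_lit 8, nat_lit 24, nat_lit 48] t107 (nat_lit 64) (nat_lit 18446744073709551615) = true := by decide +kernel
noncomputable def t106 : ℕ := nat_lit 0x28a888687898200870407010b0501808707890807088880f
theorem n106 : fullChk J.E [L0, L1, L2, L3, L4, L5, L6] R [nat_lit 0, nat_lit 184, nat_lit 16, nat_lit 8, nat_lit 24, nat_lit 32] t106 (nat_lit 64) (nat_lit 18446744073709551615) = true := by decide +kernel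
noncomputable def t105 : ℕ := nat_lit 0x2111002121000011001100112121001100000000000000
theorem n105 : redChk J.E [L0, L1, L2, L3, L4, L5, L6] J.AV [nat_lit 0, nat_lit 184, nat_lit 16, nat_lit 8, nat_lit 24] [nat_lit 31560485111857336] t105 [nat_lit 32, nat_lit 48, nat_lit 96, nat_lit 64, nat_lit 160, nat_lit 128] = true := by decide +kernel
noncomputable def t104 : ℕ := nat_lit 0x4122113322002333231312412131233331130000000000
theorem n104 : redChk J.E [L0, L1, L2, L3, L4, L5, L6] J.AV [nat_lit 0, nat_lit 184, nat_lit 16, nat_lit 8] [nat_lit 11373451625889976, nat_lit 31630853856035000, nat_lit 31701222600212664] t104 [nat_lit 24, nat_lit 32, nat_lit 136] = true := by decide +kernel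
noncomputable def t103 : ℕ := nat_lit 0x5212414142623121216231425232223132611100000000
theorem n103 : redChk J.E [L0, L1, L2, L3, L4, L5, L6] J.AV [nat_lit 0, nat_lit 184, nat_lit 16] [nat_lit 38457240516559032, nat_lit 11435058636783800] t103 [nat_lit 8, nat_lit 24] = true := by decide +kernel
noncomputable def t102 : ℕ := nat_lit 0x884828a04860080c2838b01848882008709828a84048700c286088a050708807886018684870a80828b018302808700770206850388808072868a858a8985808289890303008080770a0a8a868a0700c88a070406070880728506840a858b00828403028700870078848a8986068080c8878787890a0080828a0a018b068700c28a078a0a858900c28208098b06040088880305878486008889860687008700728789020b068080c8898287850b0080c8890b060b070880728989090602008082898807898509008887838207040700c28a0401078708807885068a008600808284840982008700728a8a8785838a00c28407818b060080828a030386890a00c70a81838b000600c703870305070880788a060905070a00828308880a870780c2840a0287078080c28902040309078088860985008b0700c883848586098080c8850b058604098087038383028087007289870684808080728a0a0608888080770986010106008082820b0a82838080828a06030a808700770a0309048708807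
theorem n102 : fullChk J.E [L0, L1, L2, L3, L4, L5, L6] R [nat_lit 0, nat_lit 184, nat_lit 8, nat_lit 24, nat_lit 40] t102 (nat_lit 64) (nat_lit 18446744073709551615) = true := by decide +kernel
noncomputable def t101 : ℕ := nat_lit 0x28507088805808012878605820a0080770a0903808107807
theorem n101 : fullChk J.E [L0, L1, L2, L3, L4, L5, L6] R [nat_lit 0, nat_lit 184, nat_lit 8, nat_lit 24, nat_lit 32, nat_lit 104] t101 (nat_lit 64) (nat_lit 18446744073709551615) = true := by decide +kernel
noncomputable def t100 : ℕ := nat_lit 0x885860506070080828b088503038080c28382810a8400808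
theorem n100 : fullChk J.E [L0, L1, L2, L3, L4, L5, L6] R [nat_lit 0, nat_lit 184, nat_lit 8, nat_lit 24, nat_lit 32, nat_lit 64] t100 (nat_lit 64) (nat_lit 18446744073709551615) = true := by decide +kernel
noncomputable def t99 : ℕ := nat_lit 0x705898a850000802885860b048200801282088a058400808
theorem n99 : fullChk J.E [L0, L1, L2, L3, L4, L5, L6] R [nat_lit 0, nat_lit 184, nat_lit 8, nat_lit 24, nat_lit 32, nat_lit 56] t99 (nat_lit 64) (nat_lit 18446744073709551615) = true := by decide +kernel
noncomputable def t98 : ℕ := nat_lit 0x282030307838080188a81848780008028890803078680808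
theorem n98 : fullChk J.E [L0, L1, L2, L3, L4, L5, L6] R [nat_lit 0, nat_lit 184, nat_lit 8, nat_lit 24, nat_lit 32, nat_lit 120] t98 (nat_lit 64) (nat_lit 18446744073709551615) = true := by decide +kernel
noncomputable def t97 : ℕ := nat_lit 0x70a028382078080788a08860100830077030202010000802
theorem n97 : fullChk J.E [L0, L1, L2, L3, L4, L5, L6] R [nat_lit 0, nat_lit 184, nat_lit 8, nat_lit 24, nat_lit 32, nat_lit 40] t97 (nat_lit 64) (nat_lit 18446744073709551615) = true := by decide +kernel
noncomputable def t96 : ℕ := nat_lit 0x28787810189048087098b06850004008284030108010a808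
theorem n96 : fullChk J.E [L0, L1, L2, L3, L4, L5, L6] R [nat_lit 0, nat_lit 184, nat_lit 8, nat_lit 24, nat_lit 32, nat_lit 16] t96 (nat_lit 64) (nat_lit 18446744073709551615) = true := by decide +kernel
noncomputable def t95 : ℕ := nat_lit 0x2121000021111100210011002111000011000000000000
theorem n95 : redChk J.E [L0, L1, L2, L3, L4, L5, L6] J.AV [nat_lit 0, nat_lit 184, nat_lit 8, nat_lit 24, nat_lit 32] [nat_lit 38315884552913080] t95 [nat_lit 16, nat_lit 40, nat_lit 120, nat_lit 56, nat_lit 64, nat_lit 104] = true := by decide +kernel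
noncomputable def t94 : ℕ := nat_lit 0x28a83058788090082850706808706008703888884858880c
theorem n94 : fullChk J.E [L0, L1, L2, L3, L4, L5, L6] R [nat_lit 0, nat_lit 184, nat_lit 8, nat_lit 24, nat_lit 16, nat_lit 104] t94 (nat_lit 64) (nat_lit 18446744073709551615) = true := by decide +kernel
noncomputable def t93 : ℕ := nat_lit 0x70807830486808082898303878303008885870b048a0880c
theorem n93 : fullChk J.E [L0, L1, L2, L3, L4, L5, L6] R [nat_lit 0, nat_lit 184, nat_lit 8, nat_lit 24, nat_lit 16, nat_lit 88] t93 (nat_lit 64) (nat_lit 18446744073709551615) = true := by decide +kernel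
noncomputable def t92 : ℕ := nat_lit 0x28904058a810400828587078a068900f2860184888a80808
theorem n92 : fullChk J.E [L0, L1, L2, L3, L4, L5, L6] R [nat_lit 0, nat_lit 184, nat_lit 8, nat_lit 24, nat_lit 16, nat_lit 168] t92 (nat_lit 64) (nat_lit 18446744073709551615) = true := by decide +kernel
noncomputable def t91 : ℕ := nat_lit 0x2848881020209808284888b05860080888a03810b098080c
theorem n91 : fullChk J.E [L0, L1, L2, L3, L4, L5, L6] R [nat_lit 0, nat_lit 184, nat_lit 8, nat_lit 24, nat_lit 16, nat_lit 56] t91 (nat_lit 64) (nat_lit 18446744073709551615) = true := by decide +kernel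
noncomputable def t90 : ℕ := nat_lit 0x28205848883868087020289818389808709028405010280c
theorem n90 : fullChk J.E [L0, L1, L2, L3, L4, L5, L6] R [nat_lit 0, nat_lit 184, nat_lit 8, nat_lit 24, nat_lit 16, nat_lit 48] t90 (nat_lit 64) (nat_lit 18446744073709551615) = true := by decide +kernel
noncomputable def t89 : ℕ := nat_lit 0x703820a81840400f88385840701020088890709028580808
theorem n89 : fullChk J.E [L0, L1, L2, L3, L4, L5, L6] R [nat_lit 0, nat_lit 184, nat_lit 8, nat_lit 24, nat_lit 16, nat_lit 32] t89 (nat_lit 64) (nat_lit 18446744073709551615) = true := by decide +kernel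
noncomputable def t88 : ℕ := nat_lit 0x2100112111001121000011002121110000000000000000
theorem n88 : redChk J.E [L0, L1, L2, L3, L4, L5, L6] J.AV [nat_lit 0, nat_lit 184, nat_lit 8, nat_lit 24, nat_lit 16] [nat_lit 38315884552913080] t88 [nat_lit 32, nat_lit 48, nat_lit 56, nat_lit 168, nat_lit 88, nat_lit 104] = true := by decide +kernel
noncomputable def t87 : ℕ := nat_lit 0x2233233223233242133122211112423213000000000000
theorem n87 : redChk J.E [L0, L1, L2, L3, L4, L5, L6] J.AV [nat_lit 0, nat_lit 184, nat_lit 8, nat_lit 24] [nat_lit 38333476738957496, nat_lit 11338267253801144, nat_lit 38368661111046328] t87 [nat_lit 16, nat_lit 32, nat_lit 40] = true := by decide +kernel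
noncomputable def t86 : ℕ := nat_lit 0x2820a8a85038100c88a858902850280c2838202068700807282058201070100c70a828300820280c28a8a02030a8100728903018b038080c7050b0102020280c8878a8381810100c88a8a0a03070080728a8609858a81007887888205058080f8820b0987800100c7020809848700807886090789058700c8878589858a8100788a040989038100c889068407058280c284890388038080c2890a8586068380c88a0403080a81007884090208088080c286068a0507008072838a0108078100c704878304840700c88b01810287008072860886030a8100788a8b0b04888100c28207020387008072830186870a81007884058800838700f289098104840600c887888702888300c7030783080a810072850b0702888700c28583068a018080c88806058a868100c2890b0782088280c88a068485058800c2898a86098a810072880a8183070600f7030888820a810077078701020a0100c88206820b038b00c887820481830280f88a860708070700c7020a82028700807286828108078480c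
theorem n86 : fullChk J.E [L0, L1, L2, L3, L4, L5, L6] R [nat_lit 0, nat_lit 184, nat_lit 8, nat_lit 16, nat_lit 136] t86 (nat_lit 64) (nat_lit 18446744073709551615) = true := by decide +kernel
noncomputable def t85 : ℕ := nat_lit 0x7078281050581008284060a82088500c282058702888580c
theorem n85 : fullChk J.E [L0, L1, L2, L3, L4, L5, L6] R [nat_lit 0, nat_lit 184, nat_lit 8, nat_lit 16, nat_lit 32, nat_lit 152] t85 (nat_lit 64) (nat_lit 18446744073709551615) = true := by decide +kernel
noncomputable def t84 : ℕ := nat_lit 0x28a890a07060080c28a088304040100828a078986070a80c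
theorem n84 : fullChk J.E [L0, L1, L2, L3, L4, L5, L6] R [nat_lit 0, nat_lit 184, nat_lit 8, nat_lit 16, nat_lit 32, nat_lit 64] t84 (nat_lit 64) (nat_lit 18446744073709551615) = true := by decide +kernel
noncomputable def t83 : ℕ := nat_lit 0x7048485078a810072880a09850a810078868789050780808
theorem n83 : fullChk J.E [L0, L1, L2, L3, L4, L5, L6] R [nat_lit 0, nat_lit 184, nat_lit 8, nat_lit 16, nat_lit 32, nat_lit 80] t83 (nat_lit 64) (nat_lit 18446744073709551615) = true := by decide +kernel
noncomputable def t82 : ℕ := nat_lit 0x70382040b078080870a88820107008078820281028700807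
theorem n82 : fullChk J.E [L0, L1, L2, L3, L4, L5, L6] R [nat_lit 0, nat_lit 184, nat_lit 8, nat_lit 16, nat_lit 32, nat_lit 120] t82 (nat_lit 64) (nat_lit 18446744073709551615) = true := by decide +kernel
noncomputable def t81 : ℕ := nat_lit 0x284830308880080c28587830801808082820901068981008
theorem n81 : fullChk J.E [L0, L1, L2, L3, L4, L5, L6] R [nat_lit 0, nat_lit 184, nat_lit 8, nat_lit 16, nat_lit 32, nat_lit 40] t81 (nat_lit 64) (nat_lit 18446744073709551615) = true := by decide +kernel
noncomputable def t80 : ℕ := nat_lit 0x283040380808080828a090600808a00f289018a010900808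
theorem n80 : fullChk J.E [L0, L1, L2, L3, L4, L5, L6] R [nat_lit 0, nat_lit 184, nat_lit 8, nat_lit 16, nat_lit 32, nat_lit 24] t80 (nat_lit 64) (nat_lit 18446744073709551615) = true := by decide +kernel
noncomputable def t79 : ℕ := nat_lit 0x11110011210000110011210021002121000000000000
theorem n79 : redChk J.E [L0, L1, L2, L3, L4, L5, L6] J.AV [nat_lit 0, nat_lit 184, nat_lit 8, nat_lit 16, nat_lit 32] [nat_lit 31560485111857336] t79 [nat_lit 24, nat_lit 40, nat_lit 120, nat_lit 80, nat_lit 64, nat_lit 152] = true := by decide +kernel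
noncomputable def t78 : ℕ := nat_lit 0x884070a85038080c28482098a898900f289090782088700c
theorem n78 : fullChk J.E [L0, L1, L2, L3, L4, L5, L6] R [nat_lit 0, nat_lit 184, nat_lit 8, nat_lit 16, nat_lit 24, nat_lit 104] t78 (nat_lit 64) (nat_lit 18446744073709551615) = true := by decide +kernel
noncomputable def t77 : ℕ := nat_lit 0x889840b048a0080c285898807038700f28a8187860a0100c
theorem n77 : fullChk J.E [L0, L1, L2, L3, L4, L5, L6] R [nat_lit 0, nat_lit 184, nat_lit 8, nat_lit 16, nat_lit 24, nat_lit 152] t77 (nat_lit 64) (nat_lit 18446744073709551615) = true := by decide +kernel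
noncomputable def t76 : ℕ := nat_lit 0x702030883840080c2848304020b0600f28b0a0304868280c
theorem n76 : fullChk J.E [L0, L1, L2, L3, L4, L5, L6] R [nat_lit 0, nat_lit 184, nat_lit 8, nat_lit 16, nat_lit 24, nat_lit 72] t76 (nat_lit 64) (nat_lit 18446744073709551615) = true := by decide +kernel
noncomputable def t75 : ℕ := nat_lit 0x2860a8401880100c288090981830080c8830703870a8080c
theorem n75 : fullChk J.E [L0, L1, L2, L3, L4, L5, L6] R [nat_lit 0, nat_lit 184, nat_lit 8, nat_lit 16, nat_lit 24, nat_lit 80] t75 (nat_lit 64) (nat_lit 18446744073709551615) = true := by decide +kernel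
noncomputable def t74 : ℕ := nat_lit 0x28a0a098a048180c283050587038080c70989040a080880c
theorem n74 : fullChk J.E [L0, L1, L2, L3, L4, L5, L6] R [nat_lit 0, nat_lit 184, nat_lit 8, nat_lit 16, nat_lit 24, nat_lit 144] t74 (nat_lit 64) (nat_lit 18446744073709551615) = true := by decide +kernel
noncomputable def t73 : ℕ := nat_lit 0x2838b0b070a8180f70b018a838a8080f882040204808280f
theorem n73 : fullChk J.E [L0, L1, L2, L3, L4, L5, L6] R [nat_lit 0, nat_lit 184, nat_lit 8, nat_lit 16, nat_lit 24, nat_lit 32] t73 (nat_lit 64) (nat_lit 18446744073709551615) = true := by decide +kernel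
noncomputable def t72 : ℕ := nat_lit 0x1121110000002121000011210000112111000000000000
theorem n72 : redChk J.E [L0, L1, L2, L3, L4, L5, L6] J.AV [nat_lit 0, nat_lit 184, nat_lit 8, nat_lit 16, nat_lit 24] [nat_lit 31560485111857336] t72 [nat_lit 32, nat_lit 144, nat_lit 80, nat_lit 72, nat_lit 152, nat_lit 104] = true := by decide +kernel
noncomputable def t71 : ℕ := nat_lit 0x1233313331002232112121223132321323210000000000
theorem n71 : redChk J.E [L0, L1, L2, L3, L4, L5, L6] J.AV [nat_lit 0, nat_lit 184, nat_lit 8, nat_lit 16] [nat_lit 38342272831979704, nat_lit 11452616463089848, nat_lit 38315884552913080] t71 [nat_lit 24, nat_lit 32, nat_lit 136] = true := by decide +kernel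
noncomputable def t70 : ℕ := nat_lit 0x3142322241423112221141413231213142215100000000
theorem n70 : redChk J.E [L0, L1, L2, L3, L4, L5, L6] J.AV [nat_lit 0, nat_lit 184, nat_lit 8] [nat_lit 11400252221817016, nat_lit 11347406944207032] t70 [nat_lit 16, nat_lit 24] = true := by decide +kernel
noncomputable def t69 : ℕ := nat_lit 0x1132525122124141522142423221513131423141000000
theorem n69 : redChk J.E [L0, L1, L2, L3, L4, L5, L6] J.AV [nat_lit 0, nat_lit 184] [nat_lit 31684250902724792, nat_lit 31657863294746808] t69 [nat_lit 8, nat_lit 16] = true := by decide +kernel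
noncomputable def t68 : ℕ := nat_lit 0x2830909060483803704890182818980428401838304070082880a098885068038848584870b090042840a8b0081828088898282078087803884088682818a0048860a8380848700828206810b018700870807038280050037098a870a89860048848607868a8900e884860b08850480328689068184838048880a83050387008705028704880a0038890b01028186804283028480808b0048898a86830a828082838702860389803284818303018280828985068803840032838886830185804886068a0685848048880403018382808286040782848a80370681858089820048838a0a02038200e884058702800200328a028587848a8048840a83008502808883888a898088003283848788860b00328a868a008a85004284048a06040280888a8685818485803283050986888800428a890705060280828206038b08090032858a8184050300428b07818689828088860508070a8800e284828a0a0503003885860585810400428b06880a808780428902838a058280e2858183050106003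
theorem n68 : fullChk J.E [L0, L1, L2, L3, L4, L5, L6] R [nat_lit 0, nat_lit 8, nat_lit 184, nat_lit 24, nat_lit 136] t68 (nat_lit 64) (nat_lit 18446744073709551615) = true := by decide +kernel
noncomputable def t67 : ℕ := nat_lit 0x7048b03060809003889088608898480370a0284028603803
theorem n67 : fullChk J.E [L0, L1, L2, L3, L4, L5, L6] R [nat_lit 0, nat_lit 8, nat_lit 184, nat_lit 24, nat_lit 32, nat_lit 104] t67 (nat_lit 64) (nat_lit 18446744073709551615) = true := by decide +kernel
noncomputable def t66 : ℕ := nat_lit 0x8890709898a0600828405058808830157098908898a0b816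
theorem n66 : fullChk J.E [L0, L1, L2, L3, L4, L5, L6] R [nat_lit 0, nat_lit 8, nat_lit 184, nat_lit 24, nat_lit 32, nat_lit 64] t66 (nat_lit 64) (nat_lit 18446744073709551615) = true := by decide +kernel
noncomputable def t65 : ℕ := nat_lit 0x8878486070a8001628487030a85030082898485040805015
theorem n65 : fullChk J.E [L0, L1, L2, L3, L4, L5, L6] R [nat_lit 0, nat_lit 8, nat_lit 184, nat_lit 24, nat_lit 32, nat_lit 56] t65 (nat_lit 64) (nat_lit 18446744073709551615) = true := by decide +kernel
noncomputable def t64 : ℕ := nat_lit 0x28382820a8400016703860a0204880082858a09808b07815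
theorem n64 : fullChk J.E [L0, L1, L2, L3, L4, L5, L6] R [nat_lit 0, nat_lit 8, nat_lit 184, nat_lit 24, nat_lit 32, nat_lit 144] t64 (nat_lit 64) (nat_lit 18446744073709551615) = true := by decide +kernel
noncomputable def t63 : ℕ := nat_lit 0x287860a8183850042868183818709004286890a04060a804
theorem n63 : fullChk J.E [L0, L1, L2, L3, L4, L5, L6] R [nat_lit 0, nat_lit 8, nat_lit 184, nat_lit 24, nat_lit 32, nat_lit 40] t63 (nat_lit 64) (nat_lit 18446744073709551615) = true := by decide +kernel
noncomputable def t62 : ℕ := nat_lit 0x88a830a04808a81728581840a040681728b0a8180858b017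
theorem n62 : fullChk J.E [L0, L1, L2, L3, L4, L5, L6] R [nat_lit 0, nat_lit 8, nat_lit 184, nat_lit 24, nat_lit 32, nat_lit 16] t62 (nat_lit 64) (nat_lit 18446744073709551615) = true := by decide +kernel
noncomputable def t61 : ℕ := nat_lit 0x1111000000212121110021001121000011000000000000
theorem n61 : redChk J.E [L0, L1, L2, L3, L4, L5, L6] J.AV [nat_lit 0, nat_lit 8, nat_lit 184, nat_lit 24, nat_lit 32] [nat_lit 31560485111857336] t61 [nat_lit 16, nat_lit 40, nat_lit 144, nat_lit 56, nat_lit 64, nat_lit 104] = true := by decide +kernel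
noncomputable def t60 : ℕ := nat_lit 0x8820383098a078087050b030087888087060a89878882808
theorem n60 : fullChk J.E [L0, L1, L2, L3, L4, L5, L6] R [nat_lit 0, nat_lit 8, nat_lit 184, nat_lit 24, nat_lit 16, nat_lit 104] t60 (nat_lit 64) (nat_lit 18446744073709551615) = true := by decide +kernel
noncomputable def t59 : ℕ := nat_lit 0x703850509870a808882050888010700870404820a8208808
theorem n59 : fullChk J.E [L0, L1, L2, L3, L4, L5, L6] R [nat_lit 0, nat_lit 8, nat_lit 184, nat_lit 24, nat_lit 16, nat_lit 160] t59 (nat_lit 64) (nat_lit 18446744073709551615) = true := by decide +kernel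
noncomputable def t58 : ℕ := nat_lit 0x7068981088a8600828a02828788828082860b0101078a008
theorem n58 : fullChk J.E [L0, L1, L2, L3, L4, L5, L6] R [nat_lit 0, nat_lit 8, nat_lit 184, nat_lit 24, nat_lit 16, nat_lit 72] t58 (nat_lit 64) (nat_lit 18446744073709551615) = true := by decide +kernel
noncomputable def t57 : ℕ := nat_lit 0x282078701838700828689840985898082850181098187808
theorem n57 : fullChk J.E [L0, L1, L2, L3, L4, L5, L6] R [nat_lit 0, nat_lit 8, nat_lit 184, nat_lit 24, nat_lit 16, nat_lit 56] t57 (nat_lit 64) (nat_lit 18446744073709551615) = true := by decide +kernel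
noncomputable def t56 : ℕ := nat_lit 0x702040907858880888801888981028082820b05060687008
theorem n56 : fullChk J.E [L0, L1, L2, L3, L4, L5, L6] R [nat_lit 0, nat_lit 8, nat_lit 184, nat_lit 24, nat_lit 16, nat_lit 120] t56 (nat_lit 64) (nat_lit 18446744073709551615) = true := by decide +kernel
noncomputable def t55 : ℕ := nat_lit 0x706088400858700828687898103020082890a840a8902008
theorem n55 : fullChk J.E [L0, L1, L2, L3, L4, L5, L6] R [nat_lit 0, nat_lit 8, nat_lit 184, nat_lit 24, nat_lit 16, nat_lit 32] t55 (nat_lit 64) (nat_lit 18446744073709551615) = true := by decide +kernel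
noncomputable def t54 : ℕ := nat_lit 0x1121002111002100000021111100110021000000000000
theorem n54 : redChk J.E [L0, L1, L2, L3, L4, L5, L6] J.AV [nat_lit 0, nat_lit 8, nat_lit 184, nat_lit 24, nat_lit 16] [nat_lit 31560485111857336] t54 [nat_lit 32, nat_lit 120, nat_lit 56, nat_lit 72, nat_lit 160, nat_lit 104] = true := by decide +kernel
noncomputable def t53 : ℕ := nat_lit 0x2341333122003112113231334121231311210000000000
theorem n53 : redChk J.E [L0, L1, L2, L3, L4, L5, L6] J.AV [nat_lit 0, nat_lit 8, nat_lit 184, nat_lit 24] [nat_lit 38342272831979704, nat_lit 11391043811934392, nat_lit 11311878974734520] t53 [nat_lit 16, nat_lit 32, nat_lit 136] = true := by decide +kernel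
noncomputable def t52 : ℕ := nat_lit 0x8858807880581008287818300800100828906048a870280828403080485090088830785860a0300e8848a030a850280870a8a81078002008286018685050680e889860406040200e8898b0505880280888409898b058100828784818085088082840a8a01820280828206810b0183008285028a85800100828902870300010087098501098006008882060782838880870a0784858a0880e2840583818202808707890886018100888a85850182028088830a8a868001008889858106888100870a01870702010082820903838182808885888287898a00828b0183818a0100888a898588010280888589810289078082860907830381008289818500848600e28986080386868082848984040a01008282098b0080010087068183808502808703890107880100888a08850983810082848207808a8280e8838a8a8b05810082838885820b0580e7068185018a828087068789870b0300e28487030489880087048b020082010082880705888208808705868380858280828a8788828a85808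
theorem n52 : fullChk J.E [L0, L1, L2, L3, L4, L5, L6] R [nat_lit 0, nat_lit 8, nat_lit 184, nat_lit 16, nat_lit 112] t52 (nat_lit 64) (nat_lit 18446744073709551615) = true := by decide +kernel
noncomputable def t51 : ℕ := nat_lit 0x8850781060781004282060b07868580e2880b07008401003
theorem n51 : fullChk J.E [L0, L1, L2, L3, L4, L5, L6] R [nat_lit 0, nat_lit 8, nat_lit 184, nat_lit 16, nat_lit 32, nat_lit 152] t51 (nat_lit 64) (nat_lit 18446744073709551615) = true := by decide +kernel
noncomputable def t50 : ℕ := nat_lit 0x2898a0887878100388906858401810048878b04038081008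
theorem n50 : fullChk J.E [L0, L1, L2, L3, L4, L5, L6] R [nat_lit 0, nat_lit 8, nat_lit 184, nat_lit 16, nat_lit 32, nat_lit 72] t50 (nat_lit 64) (nat_lit 18446744073709551615) = true := by decide +kernel
noncomputable def t49 : ℕ := nat_lit 0x709840a0280810048898505078a830087020901028801003
theorem n49 : fullChk J.E [L0, L1, L2, L3, L4, L5, L6] R [nat_lit 0, nat_lit 8, nat_lit 184, nat_lit 16, nat_lit 32, nat_lit 80] t49 (nat_lit 64) (nat_lit 18446744073709551615) = true := by decide +kernel
noncomputable def t48 : ℕ := nat_lit 0x88a080a048884808889860a8084010038840585888401004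
theorem n48 : fullChk J.E [L0, L1, L2, L3, L4, L5, L6] R [nat_lit 0, nat_lit 8, nat_lit 184, nat_lit 16, nat_lit 32, nat_lit 144] t48 (nat_lit 64) (nat_lit 18446744073709551615) = true := by decide +kernel
noncomputable def t47 : ℕ := nat_lit 0x88a0a0382090100870787880606038082848a87070387808
theorem n47 : fullChk J.E [L0, L1, L2, L3, L4, L5, L6] R [nat_lit 0, nat_lit 8, nat_lit 184, nat_lit 16, nat_lit 32, nat_lit 112] t47 (nat_lit 64) (nat_lit 18446744073709551615) = true := by decide +kernel
noncomputable def t46 : ℕ := nat_lit 0x88782098506810088860a8802058a0082840583818205808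
theorem n46 : fullChk J.E [L0, L1, L2, L3, L4, L5, L6] R [nat_lit 0, nat_lit 8, nat_lit 184, nat_lit 16, nat_lit 32, nat_lit 24] t46 (nat_lit 64) (nat_lit 18446744073709551615) = true := by decide +kernel
noncomputable def t45 : ℕ := nat_lit 0x21110000110021000011210000112111210000000000
theorem n45 : redChk J.E [L0, L1, L2, L3, L4, L5, L6] J.AV [nat_lit 0, nat_lit 8, nat_lit 184, nat_lit 16, nat_lit 32] [nat_lit 31560485111857336] t45 [nat_lit 24, nat_lit 112, nat_lit 144, nat_lit 80, nat_lit 72, nat_lit 152] = true := by decide +kernel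
noncomputable def t44 : ℕ := nat_lit 0x282048586018180828b0904870b0300e285040681888880e
theorem n44 : fullChk J.E [L0, L1, L2, L3, L4, L5, L6] R [nat_lit 0, nat_lit 8, nat_lit 184, nat_lit 16, nat_lit 24, nat_lit 128] t44 (nat_lit 64) (nat_lit 18446744073709551615) = true := by decide +kernel
noncomputable def t43 : ℕ := nat_lit 0x285830787078100e7068883020201808283830a82010880e
theorem n43 : fullChk J.E [L0, L1, L2, L3, L4, L5, L6] R [nat_lit 0, nat_lit 8, nat_lit 184, nat_lit 16, nat_lit 24, nat_lit 88] t43 (nat_lit 64) (nat_lit 18446744073709551615) = true := by decide +kernel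
noncomputable def t42 : ℕ := nat_lit 0x28789828a8a8180e28302868687810088850782018201008
theorem n42 : fullChk J.E [L0, L1, L2, L3, L4, L5, L6] R [nat_lit 0, nat_lit 8, nat_lit 184, nat_lit 16, nat_lit 24, nat_lit 168] t42 (nat_lit 64) (nat_lit 18446744073709551615) = true := by decide +kernel
noncomputable def t41 : ℕ := nat_lit 0x88b060900898180870a028605870280e7078186860601008
theorem n41 : fullChk J.E [L0, L1, L2, L3, L4, L5, L6] R [nat_lit 0, nat_lit 8, nat_lit 184, nat_lit 16, nat_lit 24, nat_lit 96] t41 (nat_lit 64) (nat_lit 18446744073709551615) = true := by decide +kernel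
noncomputable def t40 : ℕ := nat_lit 0x88208890282018087090704870581008287898205040280e
theorem n40 : fullChk J.E [L0, L1, L2, L3, L4, L5, L6] R [nat_lit 0, nat_lit 8, nat_lit 184, nat_lit 16, nat_lit 24, nat_lit 120] t40 (nat_lit 64) (nat_lit 18446744073709551615) = true := by decide +kernel
noncomputable def t39 : ℕ := nat_lit 0x8858b0708820200e28b088404080180e702078181808b00e
theorem n39 : fullChk J.E [L0, L1, L2, L3, L4, L5, L6] R [nat_lit 0, nat_lit 8, nat_lit 184, nat_lit 16, nat_lit 24, nat_lit 32] t39 (nat_lit 64) (nat_lit 18446744073709551615) = true := by decide +kernel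
noncomputable def t38 : ℕ := nat_lit 0x1100112121000000002100001121112111000000000000
theorem n38 : redChk J.E [L0, L1, L2, L3, L4, L5, L6] J.AV [nat_lit 0, nat_lit 8, nat_lit 184, nat_lit 16, nat_lit 24] [nat_lit 38315884552913080] t38 [nat_lit 32, nat_lit 120, nat_lit 96, nat_lit 168, nat_lit 88, nat_lit 128] = true := by decide +kernel
noncomputable def t37 : ℕ := nat_lit 0x2211233233131333001231413242432221230000000000
theorem n37 : redChk J.E [L0, L1, L2, L3, L4, L5, L6] J.AV [nat_lit 0, nat_lit 8, nat_lit 184, nat_lit 16] [nat_lit 38421437669179576, nat_lit 38395049390112952, nat_lit 11443820370067640] t37 [nat_lit 24, nat_lit 32, nat_lit 112] = true := by decide +kernel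
noncomputable def t36 : ℕ := nat_lit 0x3141223242325211425241324142124221212200000000
theorem n36 : redChk J.E [L0, L1, L2, L3, L4, L5, L6] J.AV [nat_lit 0, nat_lit 8, nat_lit 184] [nat_lit 38368832909738168, nat_lit 38369073427906744] t36 [nat_lit 16, nat_lit 24] = true := by decide +kernel
noncomputable def t35 : ℕ := nat_lit 0x283868808008680c8868a01070304013883898a8286030132860a8188020280c28208058a020300c88904068b0a860132868b05850b02807887890384850381888a88850488850132898b07850002018286858988888880788802068080020132898188050108818282050900898880c2860b0804888881828a0a8984078500c282050a06058280c88a8708820486013285070a80868481870a850100800b818283890585068780c889818a828b02818289018583000480c88209050503840182880b048184098138840908068a840182878482058b0280728a888303820400c8858b0a828b028188830281050b0280788b0b05008603018705020508060600c7098201060b02807884068301820280c887860302060401888a860a87038801888a0981060b028078860a0908040b01828b01888a8786813886018306088880770607818b078600c882078102868401870a098805048380c8860405850b02807883880402808a01828b050907060a80c8820a8501810b00c2898b0905880880c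
theorem n35 : fullChk J.E [L0, L1, L2, L3, L4, L5, L6] R [nat_lit 0, nat_lit 8, nat_lit 16, nat_lit 184, nat_lit 112] t35 (nat_lit 64) (nat_lit 18446744073709551615) = true := by decide +kernel
noncomputable def t34 : ℕ := nat_lit 0x88a880104818600728208080101058182848901880909811
theorem n34 : fullChk J.E [L0, L1, L2, L3, L4, L5, L6] R [nat_lit 0, nat_lit 8, nat_lit 16, nat_lit 184, nat_lit 32, nat_lit 160] t34 (nat_lit 64) (nat_lit 18446744073709551615) = true := by decide +kernel
noncomputable def t33 : ℕ := nat_lit 0x2898284870a890112868185068603818882050b020305807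
theorem n33 : fullChk J.E [L0, L1, L2, L3, L4, L5, L6] R [nat_lit 0, nat_lit 8, nat_lit 16, nat_lit 184, nat_lit 32, nat_lit 168] t33 (nat_lit 64) (nat_lit 18446744073709551615) = true := by decide +kernel
noncomputable def t32 : ℕ := nat_lit 0x702068404020981128b0a810b028101888a018b068a03007
theorem n32 : fullChk J.E [L0, L1, L2, L3, L4, L5, L6] R [nat_lit 0, nat_lit 8, nat_lit 16, nat_lit 184, nat_lit 32, nat_lit 80] t32 (nat_lit 64) (nat_lit 18446744073709551615) = true := by decide +kernel
noncomputable def t31 : ℕ := nat_lit 0x289070a0b0b0a81870a81820608830118830885840905807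
theorem n31 : fullChk J.E [L0, L1, L2, L3, L4, L5, L6] R [nat_lit 0, nat_lit 8, nat_lit 16, nat_lit 184, nat_lit 32, nat_lit 120] t31 (nat_lit 64) (nat_lit 18446744073709551615) = true := by decide +kernel
noncomputable def t30 : ℕ := nat_lit 0x28505828287028112820783828a0500c2838909808787011
theorem n30 : fullChk J.E [L0, L1, L2, L3, L4, L5, L6] R [nat_lit 0, nat_lit 8, nat_lit 16, nat_lit 184, nat_lit 32, nat_lit 136] t30 (nat_lit 64) (nat_lit 18446744073709551615) = true := by decide +kernel
noncomputable def t29 : ℕ := nat_lit 0x2890a0684890b0132858889848601811282080a010302011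
theorem n29 : fullChk J.E [L0, L1, L2, L3, L4, L5, L6] R [nat_lit 0, nat_lit 8, nat_lit 16, nat_lit 184, nat_lit 32, nat_lit 24] t29 (nat_lit 64) (nat_lit 18446744073709551615) = true := by decide +kernel
noncomputable def t28 : ℕ := nat_lit 0x1121000000110021210021111111210000000000
theorem n28 : redChk J.E [L0, L1, L2, L3, L4, L5, L6] J.AV [nat_lit 0, nat_lit 8, nat_lit 16, nat_lit 184, nat_lit 32] [nat_lit 38315884552913080] t28 [nat_lit 24, nat_lit 136, nat_lit 120, nat_lit 80, nat_lit 168, nat_lit 160] = true := by decide +kernel
noncomputable def t27 : ℕ := nat_lit 0x283878484860400c88a830404020b00c8898a0b07860180c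
theorem n27 : fullChk J.E [L0, L1, L2, L3, L4, L5, L6] R [nat_lit 0, nat_lit 8, nat_lit 16, nat_lit 184, nat_lit 24, nat_lit 104] t27 (nat_lit 64) (nat_lit 18446744073709551615) = true := by decide +kernel
noncomputable def t26 : ℕ := nat_lit 0x8860a840a8108807883838108000300c88a0a86860907007
theorem n26 : fullChk J.E [L0, L1, L2, L3, L4, L5, L6] R [nat_lit 0, nat_lit 8, nat_lit 16, nat_lit 184, nat_lit 24, nat_lit 160] t26 (nat_lit 64) (nat_lit 18446744073709551615) = true := by decide +kernel
noncomputable def t25 : ℕ := nat_lit 0x28207830a8a8180770309040a810880770a848185838280c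
theorem n25 : fullChk J.E [L0, L1, L2, L3, L4, L5, L6] R [nat_lit 0, nat_lit 8, nat_lit 16, nat_lit 184, nat_lit 24, nat_lit 72] t25 (nat_lit 64) (nat_lit 18446744073709551615) = true := by decide +kernel
noncomputable def t24 : ℕ := nat_lit 0x2850684088907007888018200828480c286818a808902807
theorem n24 : fullChk J.E [L0, L1, L2, L3, L4, L5, L6] R [nat_lit 0, nat_lit 8, nat_lit 16, nat_lit 184, nat_lit 24, nat_lit 56] t24 (nat_lit 64) (nat_lit 18446744073709551615) = true := by decide +kernel
noncomputable def t23 : ℕ := nat_lit 0x282088402078700c88b07048681088072820489088902807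
theorem n23 : fullChk J.E [L0, L1, L2, L3, L4, L5, L6] R [nat_lit 0, nat_lit 8, nat_lit 16, nat_lit 184, nat_lit 24, nat_lit 144] t23 (nat_lit 64) (nat_lit 18446744073709551615) = true := by decide +kernel
noncomputable def t22 : ℕ := nat_lit 0x28a890a8a890880c288030200870280c288018200838800c
theorem n22 : fullChk J.E [L0, L1, L2, L3, L4, L5, L6] R [nat_lit 0, nat_lit 8, nat_lit 16, nat_lit 184, nat_lit 24, nat_lit 32] t22 (nat_lit 64) (nat_lit 18446744073709551615) = true := by decide +kernel
noncomputable def t21 : ℕ := nat_lit 0x1121002100002121000021111100110011000000000000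
theorem n21 : redChk J.E [L0, L1, L2, L3, L4, L5, L6] J.AV [nat_lit 0, nat_lit 8, nat_lit 16, nat_lit 184, nat_lit 24] [nat_lit 31560485111857336] t21 [nat_lit 32, nat_lit 144, nat_lit 56, nat_lit 72, nat_lit 160, nat_lit 104] = true := by decide +kernel
noncomputable def t20 : ℕ := nat_lit 0x1123313323211231002222232131133333110000000000
theorem n20 : redChk J.E [L0, L1, L2, L3, L4, L5, L6] J.AV [nat_lit 0, nat_lit 8, nat_lit 16, nat_lit 184] [nat_lit 31595669483946168, nat_lit 31666038228123832, nat_lit 11452616463089848] t20 [nat_lit 24, nat_lit 32, nat_lit 112] = true := by decide +kernel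
noncomputable def t19 : ℕ := nat_lit 0x706038202030280d707888789098600470a0b0a840184003
theorem n19 : fullChk J.E [L0, L1, L2, L3, L4, L5, L6] R [nat_lit 0, nat_lit 8, nat_lit 16, nat_lit 24, nat_lit 184, nat_lit 104] t19 (nat_lit 64) (nat_lit 18446744073709551615) = true := by decide +kernel
noncomputable def t18 : ℕ := nat_lit 0x28a8285830409003285888183888880d2860286078808004
theorem n18 : fullChk J.E [L0, L1, L2, L3, L4, L5, L6] R [nat_lit 0, nat_lit 8, nat_lit 16, nat_lit 24, nat_lit 184, nat_lit 152] t18 (nat_lit 64) (nat_lit 18446744073709551615) = true := by decide +kernel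
noncomputable def t17 : ℕ := nat_lit 0x28782890a820a004283878a0609860038850a0a02070b00d
theorem n17 : fullChk J.E [L0, L1, L2, L3, L4, L5, L6] R [nat_lit 0, nat_lit 8, nat_lit 16, nat_lit 24, nat_lit 184, nat_lit 72] t17 (nat_lit 64) (nat_lit 18446744073709551615) = true := by decide +kernel
noncomputable def t16 : ℕ := nat_lit 0x70a020301888880d7038189028a078048848a070a0589803
theorem n16 : fullChk J.E [L0, L1, L2, L3, L4, L5, L6] R [nat_lit 0, nat_lit 8, nat_lit 16, nat_lit 24, nat_lit 184, nat_lit 56] t16 (nat_lit 64) (nat_lit 18446744073709551615) = true := by decide +kernel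
noncomputable def t15 : ℕ := nat_lit 0x882060a81808880d7038704860384004283058888060b003
theorem n15 : fullChk J.E [L0, L1, L2, L3, L4, L5, L6] R [nat_lit 0, nat_lit 8, nat_lit 16, nat_lit 24, nat_lit 184, nat_lit 48] t15 (nat_lit 64) (nat_lit 18446744073709551615) = true := by decide +kernel
noncomputable def t14 : ℕ := nat_lit 0x7098a81808082003283088601860700d2878482060782004
theorem n14 : fullChk J.E [L0, L1, L2, L3, L4, L5, L6] R [nat_lit 0, nat_lit 8, nat_lit 16, nat_lit 24, nat_lit 184, nat_lit 32] t14 (nat_lit 64) (nat_lit 18446744073709551615) = true := by decide +kernel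
noncomputable def t13 : ℕ := nat_lit 0x1121110021002111000021211100110000000000000000
theorem n13 : redChk J.E [L0, L1, L2, L3, L4, L5, L6] J.AV [nat_lit 0, nat_lit 8, nat_lit 16, nat_lit 24, nat_lit 184] [nat_lit 31560485111857336] t13 [nat_lit 32, nat_lit 48, nat_lit 56, nat_lit 72, nat_lit 152, nat_lit 104] = true := by decide +kernel
noncomputable def t12 : ℕ := nat_lit 0x8898187078808008885088904830880b703888404028280170488840900860088890584848a08802886878704858280a2848a04820209008889018204040880b286818882088a80a882020b0a0082801702058709800580888b0b0901868880b88b058680838580a28582838a8502811705020101840780b28a0209808282801285080107048281128a8a0407820880b706890105880200b888088684820280a703088107888480828a8a0b01890280188405018405028117038188840688802889828909078880b88687088200828017048304068588811706890184850880270a0b0b06068280a2858a05010a88811283830502848880228a07048483028012878805010382811287868582000400828a82058387888028830a04048002801704078485838b00870a078981020880270589010380028018868a0506858680828204020a058880270906058b070280a88984878b038280a2880a85010782811289850983070a00b7038a81010808802282020b08018280a2838583880582811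
theorem n12 : fullChk J.E [L0, L1, L2, L3, L4, L5, L6] R [nat_lit 0, nat_lit 8, nat_lit 16, nat_lit 24, nat_lit 112] t12 (nat_lit 64) (nat_lit 18446744073709551615) = true := by decide +kernel
noncomputable def t11 : ℕ := nat_lit 0x88681868984010192890a82008b098198820883868383019
theorem n11 : fullChk J.E [L0, L1, L2, L3, L4, L5, L6] R [nat_lit 0, nat_lit 8, nat_lit 16, nat_lit 24, nat_lit 32, nat_lit 184] t11 (nat_lit 64) (nat_lit 18446744073709551615) = true := by decide +kernel
noncomputable def t10 : ℕ := nat_lit 0x70b0305048a0a8012840706818489006283870a03858281a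
theorem n10 : fullChk J.E [L0, L1, L2, L3, L4, L5, L6] R [nat_lit 0, nat_lit 8, nat_lit 16, nat_lit 24, nat_lit 32, nat_lit 128] t10 (nat_lit 64) (nat_lit 18446744073709551615) = true := by decide +kernel
noncomputable def t9 : ℕ := nat_lit 0x28a070188878b00728a88050482858128840709080482811
theorem n9 : fullChk J.E [L0, L1, L2, L3, L4, L5, L6] R [nat_lit 0, nat_lit 8, nat_lit 16, nat_lit 24, nat_lit 32, nat_lit 88] t9 (nat_lit 64) (nat_lit 18446744073709551615) = true := by decide +kernel
noncomputable def t8 : ℕ := nat_lit 0x8850a0987058b0057050401860b0b81a2898284028509802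
theorem n8 : fullChk J.E [L0, L1, L2, L3, L4, L5, L6] R [nat_lit 0, nat_lit 8, nat_lit 16, nat_lit 24, nat_lit 32, nat_lit 72] t8 (nat_lit 64) (nat_lit 18446744073709551615) = true := by decide +kernel
noncomputable def t7 : ℕ := nat_lit 0x2820888048b06809705838a8a85040037090189898506816
theorem n7 : fullChk J.E [L0, L1, L2, L3, L4, L5, L6] R [nat_lit 0, nat_lit 8, nat_lit 16, nat_lit 24, nat_lit 32, nat_lit 144] t7 (nat_lit 64) (nat_lit 18446744073709551615) = true := by decide +kernel
noncomputable def t6 : ℕ := nat_lit 0x28982840a880580428a05088607890157060b06020604009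
theorem n6 : fullChk J.E [L0, L1, L2, L3, L4, L5, L6] R [nat_lit 0, nat_lit 8, nat_lit 16, nat_lit 24, nat_lit 32, nat_lit 136] t6 (nat_lit 64) (nat_lit 18446744073709551615) = true := by decide +kernel
noncomputable def t5 : ℕ := nat_lit 0x1111112100000011112100000000210021210000000000
theorem n5 : redChk J.E [L0, L1, L2, L3, L4, L5, L6] J.AV [nat_lit 0, nat_lit 8, nat_lit 16, nat_lit 24, nat_lit 32] [nat_lit 38315884552913080] t5 [nat_lit 136, nat_lit 144, nat_lit 72, nat_lit 88, nat_lit 128, nat_lit 184] = true := by decide +kernel
noncomputable def t4 : ℕ := nat_lit 0x3222433121123211003133321233212223110000000000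
theorem n4 : redChk J.E [L0, L1, L2, L3, L4, L5, L6] J.AV [nat_lit 0, nat_lit 8, nat_lit 16, nat_lit 24] [nat_lit 38315884552913080, nat_lit 11347063346823352, nat_lit 38412641576157368] t4 [nat_lit 32, nat_lit 112, nat_lit 184] = true := by decide +kernel
noncomputable def t3 : ℕ := nat_lit 0x2231423112412221423111512132524152325100000000
theorem n3 : redChk J.E [L0, L1, L2, L3, L4, L5, L6] J.AV [nat_lit 0, nat_lit 8, nat_lit 16] [nat_lit 38316399948988600, nat_lit 11373760863535288] t3 [nat_lit 24, nat_lit 184] = true := by decide +kernel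
noncomputable def t2 : ℕ := nat_lit 0x5161312151524222326161514211416262714161000000
theorem n2 : redChk J.E [L0, L1, L2, L3, L4, L5, L6] J.AV [nat_lit 0, nat_lit 8] [nat_lit 11338302553063608, nat_lit 11417810987647160] t2 [nat_lit 16, nat_lit 184] = true := by decide +kernel
noncomputable def t1 : ℕ := nat_lit 0x2231623241411121524161422161315172511251320000
theorem n1 : redChk J.E [L0, L1, L2, L3, L4, L5, L6] J.AV [nat_lit 0] [nat_lit 38474352607363256, nat_lit 38456967391346872] t1 [nat_lit 8, nat_lit 184] = true := by decide +kernel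
noncomputable def t0 : ℕ := nat_lit 0x3251124242215232224111325121223241313142314100
theorem n0 : redChk J.E [L0, L1, L2, L3, L4, L5, L6] J.AV [] [nat_lit 38386255185092792, nat_lit 38351655597531320] t0 [nat_lit 0, nat_lit 184] = true := by decide +kernel
theorem sp : specChk J.E [L0, L1, L2, L3, L4, L5, L6] R os [1, 2, 3, 4, 5, 6, 7, 8, 10, 11, 12, 14, 15, 21, 23] = true := by decide +kernel

end Cfsg.Agent.Comp.M24y
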