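import Cfsg.Agent.Comp.M24y.Chk0

set_option autoImplicit false
set_option maxRecDepth 100000
set_option Elab.async false

namespace Cfsg.Agent.Comp.M24y

theorem hs : ∀ j, j < J.N' → J.slpAt j = true := (range_step (lo := 0) 31 range_start s0)

theorem chain7 {Γ X : Type*} [Group Γ] [MulAction Γ X] {T : Lst X J.n} {gen : ℕ → Γ} {A : Subgroup Γ} (h : J.Model T gen A) : ChainOK h.M J.E (J.el gen) [] := trivial

theorem chain6 {Γ X : Type*} [Group Γ] [MulAction Γ X] {T : Lst X J.n} {gen : ℕ → Γ} {A : Subgroup Γ} (h : J.Model T gen A) : ChainOK h.M J.E (J.el gen) [L6] :=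
  h.chain_cons hs (chain7 h) l6 (range_step (lo := 0) 3 range_start q6_0)

theorem chain5 {Γ X : Type*} [Group Γ] [MulAction Γ X] {T : Lst X J.n} {gen : ℕ → Γ} {A : Subgroup Γ} (h : J.Model T gen A) : ChainOK h.M J.E (J.el gen) [L5, L6] :=
  h.chain_cons hs (chain6 h) l5 (range_step (lo := 0) 16 range_start q5_0)

theorem chain4 {Γ X : Type*} [Group Γ] [MulAction Γ X] {T : Lst X J.n} {gen : ℕ → Γ} {A : Subgroup Γ} (h : J.Model T gen A) : ChainOK h.M J.E (J.el gen) [L4, L5, L6] :=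
  h.chain_cons hs (chain5 h) l4 (range_step (lo := 0) 20 range_start q4_0)

theorem chain3 {Γ X : Type*} [Group Γ] [MulAction Γ X] {T : Lst X J.n} {gen : ℕ → Γ} {A : Subgroup Γ} (h : J.Model T gen A) : ChainOK h.M J.E (J.el gen) [L3, L4, L5, L6] :=
  h.chain_cons hs (chain4 h) l3 (range_step (lo := 0) 21 range_start q3_0)

theorem chain2 {Γ X : Type*} [Group Γ] [MulAction Γ X] {T : Lst X J.n} {gen : ℕ → Γ} {A : Subgroup Γ} (h : J.Model T gen A) : ChainOK h.M J.E (J.el gen) [L2, L3, L4, L5, L6] :=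
  h.chain_cons hs (chain3 h) l2 (range_step (lo := 0) 22 range_start q2_0)

theorem chain1 {Γ X : Type*} [Group Γ] [MulAction Γ X] {T : Lst X J.n} {gen : ℕ → Γ} {A : Subgroup Γ} (h : J.Model T gen A) : ChainOK h.M J.E (J.el gen) [L1, L2, L3, L4, L5, L6] :=
  h.chain_cons hs (chain2 h) l1 (range_step (lo := 0) 23 range_start q1_0)

theorem chain0 {Γ X : Type*} [Group Γ] [MulAction Γ X] {T : Lst X J.n} {gen : ℕ → Γ} {A : Subgroup Γ} (h : J.Model T gen A) : ChainOK h.M J.E (J.el gen) [L0, L1, L2, L3, L4, L5, L6] :=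
  h.chain_cons hs (chain1 h) l0 (range_step (lo := 0) 24 range_start q0_0)

theorem GpL_eq {Γ : Type*} [Group Γ] (gen : ℕ → Γ) : GpL (J.el gen) [L0, L1, L2, L3, L4, L5, L6] = J.G gen := Job.GpL_top rfl rfl

theorem card {Γ X : Type*} [Group Γ] [MulAction Γ X] {T : Lst X J.n} {gen : ℕ → Γ} {A : Subgroup Γ} (h : J.Model T gen A) : Nat.card (J.G gen) = 244823040 := by
  rw [← GpL_eq, (chain0 h).card]; rfl

theorem finite {Γ X : Type*} [Group Γ] [MulAction Γ X] {T : Lst X J.n} {gen : ℕ → Γ} {A : Subgroup Γ} (h : J.Model T gen A) : Finite (J.G gen) := by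
  rw [← GpL_eq]; exact (chain0 h).finite

theorem ctx {Γ X : Type*} [Group Γ] [MulAction Γ X] {T : Lst X J.n} {gen : ℕ → Γ} {A : Subgroup Γ} (h : J.Model T gen A) : Ctx h.M J.E (J.el gen) [L0, L1, L2, L3, L4, L5, L6] R :=
  h.ctx hs (chain0 h) rfl rfl rp

theorem cov270 {Γ X : Type*} [Group Γ] [MulAction Γ X] {T : Lst X J.n} {gen : ℕ → Γ} {A : Subgroup Γ} (h : J.Model T gen A) : Cov h.M (J.el gen) [L0, L1, L2, L3, L4, L5, L6] R [nat_lit 184, nat_lit 8, nat_lit 16, nat_lit 24, nat_lit 40] :=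
  cov_full (ctx h) n270

theorem cov269 {Γ X : Type*} [Group Γ] [MulAction Γ X] {T : Lst X J.n} {gen : ℕ → Γ} {A : Subgroup Γ} (h : J.Model T gen A) : Cov h.M (J.el gen) [L0, L1, L2, L3, L4, L5, L6] R [nat_lit 184, nat_lit 8, nat_lit 16, nat_lit 24, nat_lit 32, nat_lit 104] :=
  cov_full (ctx h) n269

theorem cov268 {Γ X : Type*} [Group Γ] [MulAction Γ X] {T : Lst X J.n} {gen : ℕ → Γ} {A : Subgroup Γ} (h : J.Model T gen A) : Cov h.M (J.el gen) [L0, L1, L2, L3, L4, L5, L6] R [nat_lit 184, nat_lit 8, nat_lit 16, nat_lit 24, nat_lit 32, nat_lit 88] :=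
  cov_full (ctx h) n268

theorem cov267 {Γ X : Type*} [Group Γ] [MulAction Γ X] {T : Lst X J.n} {gen : ℕ → Γ} {A : Subgroup Γ} (h : J.Model T gen A) : Cov h.M (J.el gen) [L0, L1, L2, L3, L4, L5, L6] R [nat_lit 184, nat_lit 8, nat_lit 16, nat_lit 24, nat_lit 32, nat_lit 72] :=
  cov_full (ctx h) n267

theorem cov266 {Γ X : Type*} [Group Γ] [MulAction Γ X] {T : Lst X J.n} {gen : ℕ → Γ} {A : Subgroup Γ} (h : J.Model T gen A) : Cov h.M (J.el gen) [L0, L1, L2, L3, L4, L5, L6] R [nat_lit 184, nat_lit 8, nat_lit 16, nat_lit 24, nat_lit 32, nat_lit 56] :=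
  cov_full (ctx h) n266

theorem cov265 {Γ X : Type*} [Group Γ] [MulAction Γ X] {T : Lst X J.n} {gen : ℕ → Γ} {A : Subgroup Γ} (h : J.Model T gen A) : Cov h.M (J.el gen) [L0, L1, L2, L3, L4, L5, L6] R [nat_lit 184, nat_lit 8, nat_lit 16, nat_lit 24, nat_lit 32, nat_lit 112] :=
  cov_full (ctx h) n265

theorem cov264 {Γ X : Type*} [Group Γ] [MulAction Γ X] {T : Lst X J.n} {gen : ℕ → Γ} {A : Subgroup Γ} (h : J.Model T gen A) : Cov h.M (J.el gen) [L0, L1, L2, L3, L4, L5, L6] R [nat_lit 184, nat_lit 8, nat_lit 16, nat_lit 24, nat_lit 32, nat_lit 0] :=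
  cov_full (ctx h) n264

theorem cov263 {Γ X : Type*} [Group Γ] [MulAction Γ X] {T : Lst X J.n} {gen : ℕ → Γ} {A : Subgroup Γ} (h : J.Model T gen A) : Cov h.M (J.el gen) [L0, L1, L2, L3, L4, L5, L6] R [nat_lit 184, nat_lit 8, nat_lit 16, nat_lit 24, nat_lit 32] :=
  cov_red (ctx h) h.hAV n263 (forall_mem_cons' (cov264 h) (forall_mem_cons' (cov265 h) (forall_mem_cons' (cov266 h) (forall_mem_cons' (cov267 h) (forall_mem_cons' (cov268 h) (forall_mem_cons' (cov269 h) forall_mem_nil'))))))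

theorem cov262 {Γ X : Type*} [Group Γ] [MulAction Γ X] {T : Lst X J.n} {gen : ℕ → Γ} {A : Subgroup Γ} (h : J.Model T gen A) : Cov h.M (J.el gen) [L0, L1, L2, L3, L4, L5, L6] R [nat_lit 184, nat_lit 8, nat_lit 16, nat_lit 24, nat_lit 0, nat_lit 128] :=
  cov_full (ctx h) n262

theorem cov261 {Γ X : Type*} [Group Γ] [MulAction Γ X] {T : Lst X J.n} {gen : ℕ → Γ} {A : Subgroup Γ} (h : J.Model T gen A) : Cov h.M (J.el gen) [L0, L1, L2, L3, L4, L5, L6] R [nat_lit 184, nat_lit 8, nat_lit 16, nat_lit 24, nat_lit 0, nat_lit 160] :=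
  cov_full (ctx h) n261

theorem cov260 {Γ X : Type*} [Group Γ] [MulAction Γ X] {T : Lst X J.n} {gen : ℕ → Γ} {A : Subgroup Γ} (h : J.Model T gen A) : Cov h.M (J.el gen) [L0, L1, L2, L3, L4, L5, L6] R [nat_lit 184, nat_lit 8, nat_lit 16, nat_lit 24, nat_lit 0, nat_lit 72] :=
  cov_full (ctx h) n260

theorem cov259 {Γ X : Type*} [Group Γ] [MulAction Γ X] {T : Lst X J.n} {gen : ℕ → Γ} {A : Subgroup Γ} (h : J.Model T gen A) : Cov h.M (J.el gen) [L0, L1, L2, L3, L4, L5, L6] R [nat_lit 184, nat_lit 8, nat_lit 16, nat_lit 24, nat_lit 0, nat_lit 80] :=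
  cov_full (ctx h) n259

theorem cov258 {Γ X : Type*} [Group Γ] [MulAction Γ X] {T : Lst X J.n} {gen : ℕ → Γ} {A : Subgroup Γ} (h : J.Model T gen A) : Cov h.M (J.el gen) [L0, L1, L2, L3, L4, L5, L6] R [nat_lit 184, nat_lit 8, nat_lit 16, nat_lit 24, nat_lit 0, nat_lit 120] :=
  cov_full (ctx h) n258

theorem cov257 {Γ X : Type*} [Group Γ] [MulAction Γ X] {T : Lst X J.n} {gen : ℕ → Γ} {A : Subgroup Γ} (h : J.Model T gen A) : Cov h.M (J.el gen) [L0, L1, L2, L3, L4, L5, L6] R [nat_lit 184, nat_lit 8, nat_lit 16, nat_lit 24, nat_lit 0, nat_lit 32] :=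
  cov_full (ctx h) n257

theorem cov256 {Γ X : Type*} [Group Γ] [MulAction Γ X] {T : Lst X J.n} {gen : ℕ → Γ} {A : Subgroup Γ} (h : J.Model T gen A) : Cov h.M (J.el gen) [L0, L1, L2, L3, L4, L5, L6] R [nat_lit 184, nat_lit 8, nat_lit 16, nat_lit 24, nat_lit 0] :=
  cov_red (ctx h) h.hAV n256 (forall_mem_cons' (cov257 h) (forall_mem_cons' (cov258 h) (forall_mem_cons' (cov259 h) (forall_mem_cons' (cov260 h) (forall_mem_cons' (cov261 h) (forall_mem_cons' (cov262 h) forall_mem_nil'))))))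

theorem cov255 {Γ X : Type*} [Group Γ] [MulAction Γ X] {T : Lst X J.n} {gen : ℕ → Γ} {A : Subgroup Γ} (h : J.Model T gen A) : Cov h.M (J.el gen) [L0, L1, L2, L3, L4, L5, L6] R [nat_lit 184, nat_lit 8, nat_lit 16, nat_lit 24] :=
  cov_red (ctx h) h.hAV n255 (forall_mem_cons' (cov256 h) (forall_mem_cons' (cov263 h) (forall_mem_cons' (cov270 h) forall_mem_nil')))

theorem cov254 {Γ X : Type*} [Group Γ] [MulAction Γ X] {T : Lst X J.n} {gen : ℕ → Γ} {A : Subgroup Γ} (h : J.Model T gen A) : Cov h.M (J.el gen) [L0, L1, L2, L3, L4, L5, L6] R [nat_lit 184, nat_lit 8, nat_lit 16, nat_lit 0, nat_lit 40] :=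
  cov_full (ctx h) n254

theorem cov253 {Γ X : Type*} [Group Γ] [MulAction Γ X] {T : Lst X J.n} {gen : ℕ → Γ} {A : Subgroup Γ} (h : J.Model T gen A) : Cov h.M (J.el gen) [L0, L1, L2, L3, L4, L5, L6] R [nat_lit 184, nat_lit 8, nat_lit 16, nat_lit 0, nat_lit 32, nat_lit 88] :=
  cov_full (ctx h) n253

theorem cov252 {Γ X : Type*} [Group Γ] [MulAction Γ X] {T : Lst X J.n} {gen : ℕ → Γ} {A : Subgroup Γ} (h : J.Model T gen A) : Cov h.M (J.el gen) [L0, L1, L2, L3, L4, L5, L6] R [nat_lit 184, nat_lit 8, nat_lit 16, nat_lit 0, nat_lit 32, nat_lit 72] :=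
  cov_full (ctx h) n252

theorem cov251 {Γ X : Type*} [Group Γ] [MulAction Γ X] {T : Lst X J.n} {gen : ℕ → Γ} {A : Subgroup Γ} (h : J.Model T gen A) : Cov h.M (J.el gen) [L0, L1, L2, L3, L4, L5, L6] R [nat_lit 184, nat_lit 8, nat_lit 16, nat_lit 0, nat_lit 32, nat_lit 56] :=
  cov_full (ctx h) n251

theorem cov250 {Γ X : Type*} [Group Γ] [MulAction Γ X] {T : Lst X J.n} {gen : ℕ → Γ} {A : Subgroup Γ} (h : J.Model T gen A) : Cov h.M (J.el gen) [L0, L1, L2, L3, L4, L5, L6] R [nat_lit 184, nat_lit 8, nat_lit 16, nat_lit 0, nat_lit 32, nat_lit 48] :=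
  cov_full (ctx h) n250

theorem cov249 {Γ X : Type*} [Group Γ] [MulAction Γ X] {T : Lst X J.n} {gen : ℕ → Γ} {A : Subgroup Γ} (h : J.Model T gen A) : Cov h.M (J.el gen) [L0, L1, L2, L3, L4, L5, L6] R [nat_lit 184, nat_lit 8, nat_lit 16, nat_lit 0, nat_lit 32, nat_lit 40] :=
  cov_full (ctx h) n249

theorem cov248 {Γ X : Type*} [Group Γ] [MulAction Γ X] {T : Lst X J.n} {gen : ℕ → Γ} {A : Subgroup Γ} (h : J.Model T gen A) : Cov h.M (J.el gen) [L0, L1, L2, L3, L4, L5, L6] R [nat_lit 184, nat_lit 8, nat_lit 16, nat_lit 0, nat_lit 32, nat_lit 24] :=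
  cov_full (ctx h) n248

theorem cov247 {Γ X : Type*} [Group Γ] [MulAction Γ X] {T : Lst X J.n} {gen : ℕ → Γ} {A : Subgroup Γ} (h : J.Model T gen A) : Cov h.M (J.el gen) [L0, L1, L2, L3, L4, L5, L6] R [nat_lit 184, nat_lit 8, nat_lit 16, nat_lit 0, nat_lit 32] :=
  cov_red (ctx h) h.hAV n247 (forall_mem_cons' (cov248 h) (forall_mem_cons' (cov249 h) (forall_mem_cons' (cov250 h) (forall_mem_cons' (cov251 h) (forall_mem_cons' (cov252 h) (forall_mem_cons' (cov253 h) forall_mem_nil'))))))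

theorem cov246 {Γ X : Type*} [Group Γ] [MulAction Γ X] {T : Lst X J.n} {gen : ℕ → Γ} {A : Subgroup Γ} (h : J.Model T gen A) : Cov h.M (J.el gen) [L0, L1, L2, L3, L4, L5, L6] R [nat_lit 184, nat_lit 8, nat_lit 16, nat_lit 0, nat_lit 24, nat_lit 104] :=
  cov_full (ctx h) n246

theorem cov245 {Γ X : Type*} [Group Γ] [MulAction Γ X] {T : Lst X J.n} {gen : ℕ → Γ} {A : Subgroup Γ} (h : J.Model T gen A) : Cov h.M (J.el gen) [L0, L1, L2, L3, L4, L5, L6] R [nat_lit 184, nat_lit 8, nat_lit 16, nat_lit 0, nat_lit 24, nat_lit 152] :=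
  cov_full (ctx h) n245

theorem cov244 {Γ X : Type*} [Group Γ] [MulAction Γ X] {T : Lst X J.n} {gen : ℕ → Γ} {A : Subgroup Γ} (h : J.Model T gen A) : Cov h.M (J.el gen) [L0, L1, L2, L3, L4, L5, L6] R [nat_lit 184, nat_lit 8, nat_lit 16, nat_lit 0, nat_lit 24, nat_lit 72] :=
  cov_full (ctx h) n244

theorem cov243 {Γ X : Type*} [Group Γ] [MulAction Γ X] {T : Lst X J.n} {gen : ℕ → Γ} {A : Subgroup Γ} (h : J.Model T gen A) : Cov h.M (J.el gen) [L0, L1, L2, L3, L4, L5, L6] R [nat_lit 184, nat_lit 8, nat_lit 16, nat_lit 0, nat_lit 24, nat_lit 96] :=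
  cov_full (ctx h) n243

theorem cov242 {Γ X : Type*} [Group Γ] [MulAction Γ X] {T : Lst X J.n} {gen : ℕ → Γ} {A : Subgroup Γ} (h : J.Model T gen A) : Cov h.M (J.el gen) [L0, L1, L2, L3, L4, L5, L6] R [nat_lit 184, nat_lit 8, nat_lit 16, nat_lit 0, nat_lit 24, nat_lit 48] :=
  cov_full (ctx h) n242

theorem cov241 {Γ X : Type*} [Group Γ] [MulAction Γ X] {T : Lst X J.n} {gen : ℕ → Γ} {A : Subgroup Γ} (h : J.Model T gen A) : Cov h.M (J.el gen) [L0, L1, L2, L3, L4, L5, L6] R [nat_lit 184, nat_lit 8, nat_lit 16, nat_lit 0, nat_lit 24, nat_lit 32] :=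
  cov_full (ctx h) n241

theorem cov240 {Γ X : Type*} [Group Γ] [MulAction Γ X] {T : Lst X J.n} {gen : ℕ → Γ} {A : Subgroup Γ} (h : J.Model T gen A) : Cov h.M (J.el gen) [L0, L1, L2, L3, L4, L5, L6] R [nat_lit 184, nat_lit 8, nat_lit 16, nat_lit 0, nat_lit 24] :=
  cov_red (ctx h) h.hAV n240 (forall_mem_cons' (cov241 h) (forall_mem_cons' (cov242 h) (forall_mem_cons' (cov243 h) (forall_mem_cons' (cov244 h) (forall_mem_cons' (cov245 h) (forall_mem_cons' (cov246 h) forall_mem_nil'))))))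

theorem cov239 {Γ X : Type*} [Group Γ] [MulAction Γ X] {T : Lst X J.n} {gen : ℕ → Γ} {A : Subgroup Γ} (h : J.Model T gen A) : Cov h.M (J.el gen) [L0, L1, L2, L3, L4, L5, L6] R [nat_lit 184, nat_lit 8, nat_lit 16, nat_lit 0] :=
  cov_red (ctx h) h.hAV n239 (forall_mem_cons' (cov240 h) (forall_mem_cons' (cov247 h) (forall_mem_cons' (cov254 h) forall_mem_nil')))

theorem cov238 {Γ X : Type*} [Group Γ] [MulAction Γ X] {T : Lst X J.n} {gen : ℕ → Γ} {A : Subgroup Γ} (h : J.Model T gen A) : Cov h.M (J.el gen) [L0, L1, L2, L3, L4, L5, L6] R [nat_lit 184, nat_lit 8, nat_lit 16] :=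
  cov_red (ctx h) h.hAV n238 (forall_mem_cons' (cov239 h) (forall_mem_cons' (cov255 h) forall_mem_nil'))

theorem cov237 {Γ X : Type*} [Group Γ] [MulAction Γ X] {T : Lst X J.n} {gen : ℕ → Γ} {A : Subgroup Γ} (h : J.Model T gen A) : Cov h.M (J.el gen) [L0, L1, L2, L3, L4, L5, L6] R [nat_lit 184, nat_lit 8, nat_lit 0, nat_lit 24, nat_lit 136] :=
  cov_full (ctx h) n237

theorem cov236 {Γ X : Type*} [Group Γ] [MulAction Γ X] {T : Lst X J.n} {gen : ℕ → Γ} {A : Subgroup Γ} (h : J.Model T gen A) : Cov h.M (J.el gen) [L0, L1, L2, L3, L4, L5, L6] R [nat_lit 184, nat_lit 8, nat_lit 0, nat_lit 24, nat_lit 32, nat_lit 128] :=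
  cov_full (ctx h) n236

theorem cov235 {Γ X : Type*} [Group Γ] [MulAction Γ X] {T : Lst X J.n} {gen : ℕ → Γ} {A : Subgroup Γ} (h : J.Model T gen A) : Cov h.M (J.el gen) [L0, L1, L2, L3, L4, L5, L6] R [nat_lit 184, nat_lit 8, nat_lit 0, nat_lit 24, nat_lit 32, nat_lit 168] :=
  cov_full (ctx h) n235

theorem cov234 {Γ X : Type*} [Group Γ] [MulAction Γ X] {T : Lst X J.n} {gen : ℕ → Γ} {A : Subgroup Γ} (h : J.Model T gen A) : Cov h.M (J.el gen) [L0, L1, L2, L3, L4, L5, L6] R [nat_lit 184, nat_lit 8, nat_lit 0, nat_lit 24, nat_lit 32, nat_lit 80] :=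
  cov_full (ctx h) n234

theorem cov233 {Γ X : Type*} [Group Γ] [MulAction Γ X] {T : Lst X J.n} {gen : ℕ → Γ} {A : Subgroup Γ} (h : J.Model T gen A) : Cov h.M (J.el gen) [L0, L1, L2, L3, L4, L5, L6] R [nat_lit 184, nat_lit 8, nat_lit 0, nat_lit 24, nat_lit 32, nat_lit 144] :=
  cov_full (ctx h) n233

theorem cov232 {Γ X : Type*} [Group Γ] [MulAction Γ X] {T : Lst X J.n} {gen : ℕ → Γ} {A : Subgroup Γ} (h : J.Model T gen A) : Cov h.M (J.el gen) [L0, L1, L2, L3, L4, L5, L6] R [nat_lit 184, nat_lit 8, nat_lit 0, nat_lit 24, nat_lit 32, nat_lit 112] :=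
  cov_full (ctx h) n232

theorem cov231 {Γ X : Type*} [Group Γ] [MulAction Γ X] {T : Lst X J.n} {gen : ℕ → Γ} {A : Subgroup Γ} (h : J.Model T gen A) : Cov h.M (J.el gen) [L0, L1, L2, L3, L4, L5, L6] R [nat_lit 184, nat_lit 8, nat_lit 0, nat_lit 24, nat_lit 32, nat_lit 16] :=
  cov_full (ctx h) n231

theorem cov230 {Γ X : Type*} [Group Γ] [MulAction Γ X] {T : Lst X J.n} {gen : ℕ → Γ} {A : Subgroup Γ} (h : J.Model T gen A) : Cov h.M (J.el gen) [L0, L1, L2, L3, L4, L5, L6] R [nat_lit 184, nat_lit 8, nat_lit 0, nat_lit 24, nat_lit 32] :=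
  cov_red (ctx h) h.hAV n230 (forall_mem_cons' (cov231 h) (forall_mem_cons' (cov232 h) (forall_mem_cons' (cov233 h) (forall_mem_cons' (cov234 h) (forall_mem_cons' (cov235 h) (forall_mem_cons' (cov236 h) forall_mem_nil'))))))

theorem cov229 {Γ X : Type*} [Group Γ] [MulAction Γ X] {T : Lst X J.n} {gen : ℕ → Γ} {A : Subgroup Γ} (h : J.Model T gen A) : Cov h.M (J.el gen) [L0, L1, L2, L3, L4, L5, L6] R [nat_lit 184, nat_lit 8, nat_lit 0, nat_lit 24, nat_lit 16, nat_lit 128] :=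
  cov_full (ctx h) n229

theorem cov228 {Γ X : Type*} [Group Γ] [MulAction Γ X] {T : Lst X J.n} {gen : ℕ → Γ} {A : Subgroup Γ} (h : J.Model T gen A) : Cov h.M (J.el gen) [L0, L1, L2, L3, L4, L5, L6] R [nat_lit 184, nat_lit 8, nat_lit 0, nat_lit 24, nat_lit 16, nat_lit 152] :=
  cov_full (ctx h) n228

theorem cov227 {Γ X : Type*} [Group Γ] [MulAction Γ X] {T : Lst X J.n} {gen : ℕ → Γ} {A : Subgroup Γ} (h : J.Model T gen A) : Cov h.M (J.el gen) [L0, L1, L2, L3, L4, L5, L6] R [nat_lit 184, nat_lit 8, nat_lit 0, nat_lit 24, nat_lit 16, nat_lit 72] :=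
  cov_full (ctx h) n227

theorem cov226 {Γ X : Type*} [Group Γ] [MulAction Γ X] {T : Lst X J.n} {gen : ℕ → Γ} {A : Subgroup Γ} (h : J.Model T gen A) : Cov h.M (J.el gen) [L0, L1, L2, L3, L4, L5, L6] R [nat_lit 184, nat_lit 8, nat_lit 0, nat_lit 24, nat_lit 16, nat_lit 56] :=
  cov_full (ctx h) n226

theorem cov225 {Γ X : Type*} [Group Γ] [MulAction Γ X] {T : Lst X J.n} {gen : ℕ → Γ} {A : Subgroup Γ} (h : J.Model T gen A) : Cov h.M (J.el gen) [L0, L1, L2, L3, L4, L5, L6] R [nat_lit 184, nat_lit 8, nat_lit 0, nat_lit 24, nat_lit 16, nat_lit 48] :=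
  cov_full (ctx h) n225

theorem cov224 {Γ X : Type*} [Group Γ] [MulAction Γ X] {T : Lst X J.n} {gen : ℕ → Γ} {A : Subgroup Γ} (h : J.Model T gen A) : Cov h.M (J.el gen) [L0, L1, L2, L3, L4, L5, L6] R [nat_lit 184, nat_lit 8, nat_lit 0, nat_lit 24, nat_lit 16, nat_lit 32] :=
  cov_full (ctx h) n224

theorem cov223 {Γ X : Type*} [Group Γ] [MulAction Γ X] {T : Lst X J.n} {gen : ℕ → Γ} {A : Subgroup Γ} (h : J.Model T gen A) : Cov h.M (J.el gen) [L0, L1, L2, L3, L4, L5, L6] R [nat_lit 184, nat_lit 8, nat_lit 0, nat_lit 24, nat_lit 16] :=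
  cov_red (ctx h) h.hAV n223 (forall_mem_cons' (cov224 h) (forall_mem_cons' (cov225 h) (forall_mem_cons' (cov226 h) (forall_mem_cons' (cov227 h) (forall_mem_cons' (cov228 h) (forall_mem_cons' (cov229 h) forall_mem_nil'))))))

theorem cov222 {Γ X : Type*} [Group Γ] [MulAction Γ X] {T : Lst X J.n} {gen : ℕ → Γ} {A : Subgroup Γ} (h : J.Model T gen A) : Cov h.M (J.el gen) [L0, L1, L2, L3, L4, L5, L6] R [nat_lit 184, nat_lit 8, nat_lit 0, nat_lit 24] :=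
  cov_red (ctx h) h.hAV n222 (forall_mem_cons' (cov223 h) (forall_mem_cons' (cov230 h) (forall_mem_cons' (cov237 h) forall_mem_nil')))

theorem cov221 {Γ X : Type*} [Group Γ] [MulAction Γ X] {T : Lst X J.n} {gen : ℕ → Γ} {A : Subgroup Γ} (h : J.Model T gen A) : Cov h.M (J.el gen) [L0, L1, L2, L3, L4, L5, L6] R [nat_lit 184, nat_lit 8, nat_lit 0, nat_lit 16, nat_lit 112] :=
  cov_full (ctx h) n221

theorem cov220 {Γ X : Type*} [Group Γ] [MulAction Γ X] {T : Lst X J.n} {gen : ℕ → Γ} {A : Subgroup Γ} (h : J.Model T gen A) : Cov h.M (J.el gen) [L0, L1, L2, L3, L4, L5, L6] R [nat_lit 184, nat_lit 8, nat_lit 0, nat_lit 16, nat_lit 32, nat_lit 88] :=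
  cov_full (ctx h) n220

theorem cov219 {Γ X : Type*} [Group Γ] [MulAction Γ X] {T : Lst X J.n} {gen : ℕ → Γ} {A : Subgroup Γ} (h : J.Model T gen A) : Cov h.M (J.el gen) [L0, L1, L2, L3, L4, L5, L6] R [nat_lit 184, nat_lit 8, nat_lit 0, nat_lit 16, nat_lit 32, nat_lit 72] :=
  cov_full (ctx h) n219

theorem cov218 {Γ X : Type*} [Group Γ] [MulAction Γ X] {T : Lst X J.n} {gen : ℕ → Γ} {A : Subgroup Γ} (h : J.Model T gen A) : Cov h.M (J.el gen) [L0, L1, L2, L3, L4, L5, L6] R [nat_lit 184, nat_lit 8, nat_lit 0, nat_lit 16, nat_lit 32, nat_lit 96] :=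
  cov_full (ctx h) n218

theorem cov217 {Γ X : Type*} [Group Γ] [MulAction Γ X] {T : Lst X J.n} {gen : ℕ → Γ} {A : Subgroup Γ} (h : J.Model T gen A) : Cov h.M (J.el gen) [L0, L1, L2, L3, L4, L5, L6] R [nat_lit 184, nat_lit 8, nat_lit 0, nat_lit 16, nat_lit 32, nat_lit 48] :=
  cov_full (ctx h) n217

theorem cov216 {Γ X : Type*} [Group Γ] [MulAction Γ X] {T : Lst X J.n} {gen : ℕ → Γ} {A : Subgroup Γ} (h : J.Model T gen A) : Cov h.M (J.el gen) [L0, L1, L2, L3, L4, L5, L6] R [nat_lit 184, nat_lit 8, nat_lit 0, nat_lit 16, nat_lit 32, nat_lit 136] :=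
  cov_full (ctx h) n216

theorem cov215 {Γ X : Type*} [Group Γ] [MulAction Γ X] {T : Lst X J.n} {gen : ℕ → Γ} {A : Subgroup Γ} (h : J.Model T gen A) : Cov h.M (J.el gen) [L0, L1, L2, L3, L4, L5, L6] R [nat_lit 184, nat_lit 8, nat_lit 0, nat_lit 16, nat_lit 32, nat_lit 24] :=
  cov_full (ctx h) n215

theorem cov214 {Γ X : Type*} [Group Γ] [MulAction Γ X] {T : Lst X J.n} {gen : ℕ → Γ} {A : Subgroup Γ} (h : J.Model T gen A) : Cov h.M (J.el gen) [L0, L1, L2, L3, L4, L5, L6] R [nat_lit 184, nat_lit 8, nat_lit 0, nat_lit 16, nat_lit 32] :=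
  cov_red (ctx h) h.hAV n214 (forall_mem_cons' (cov215 h) (forall_mem_cons' (cov216 h) (forall_mem_cons' (cov217 h) (forall_mem_cons' (cov218 h) (forall_mem_cons' (cov219 h) (forall_mem_cons' (cov220 h) forall_mem_nil'))))))

theorem cov213 {Γ X : Type*} [Group Γ] [MulAction Γ X] {T : Lst X J.n} {gen : ℕ → Γ} {A : Subgroup Γ} (h : J.Model T gen A) : Cov h.M (J.el gen) [L0, L1, L2, L3, L4, L5, L6] R [nat_lit 184, nat_lit 8, nat_lit 0, nat_lit 16, nat_lit 24, nat_lit 104] :=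
  cov_full (ctx h) n213

theorem cov212 {Γ X : Type*} [Group Γ] [MulAction Γ X] {T : Lst X J.n} {gen : ℕ → Γ} {A : Subgroup Γ} (h : J.Model T gen A) : Cov h.M (J.el gen) [L0, L1, L2, L3, L4, L5, L6] R [nat_lit 184, nat_lit 8, nat_lit 0, nat_lit 16, nat_lit 24, nat_lit 88] :=
  cov_full (ctx h) n212

theorem cov211 {Γ X : Type*} [Group Γ] [MulAction Γ X] {T : Lst X J.n} {gen : ℕ → Γ} {A : Subgroup Γ} (h : J.Model T gen A) : Cov h.M (J.el gen) [L0, L1, L2, L3, L4, L5, L6] R [nat_lit 184, nat_lit 8, nat_lit 0, nat_lit 16, nat_lit 24, nat_lit 64] :=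
  cov_full (ctx h) n211

theorem cov210 {Γ X : Type*} [Group Γ] [MulAction Γ X] {T : Lst X J.n} {gen : ℕ → Γ} {A : Subgroup Γ} (h : J.Model T gen A) : Cov h.M (J.el gen) [L0, L1, L2, L3, L4, L5, L6] R [nat_lit 184, nat_lit 8, nat_lit 0, nat_lit 16, nat_lit 24, nat_lit 56] :=
  cov_full (ctx h) n210

theorem cov209 {Γ X : Type*} [Group Γ] [MulAction Γ X] {T : Lst X J.n} {gen : ℕ → Γ} {A : Subgroup Γ} (h : J.Model T gen A) : Cov h.M (J.el gen) [L0, L1, L2, L3, L4, L5, L6] R [nat_lit 184, nat_lit 8, nat_lit 0, nat_lit 16, nat_lit 24, nat_lit 48] :=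
  cov_full (ctx h) n209

theorem cov208 {Γ X : Type*} [Group Γ] [MulAction Γ X] {T : Lst X J.n} {gen : ℕ → Γ} {A : Subgroup Γ} (h : J.Model T gen A) : Cov h.M (J.el gen) [L0, L1, L2, L3, L4, L5, L6] R [nat_lit 184, nat_lit 8, nat_lit 0, nat_lit 16, nat_lit 24, nat_lit 32] :=
  cov_full (ctx h) n208

theorem cov207 {Γ X : Type*} [Group Γ] [MulAction Γ X] {T : Lst X J.n} {gen : ℕ → Γ} {A : Subgroup Γ} (h : J.Model T gen A) : Cov h.M (J.el gen) [L0, L1, L2, L3, L4, L5, L6] R [nat_lit 184, nat_lit 8, nat_lit 0, nat_lit 16, nat_lit 24] :=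
  cov_red (ctx h) h.hAV n207 (forall_mem_cons' (cov208 h) (forall_mem_cons' (cov209 h) (forall_mem_cons' (cov210 h) (forall_mem_cons' (cov211 h) (forall_mem_cons' (cov212 h) (forall_mem_cons' (cov213 h) forall_mem_nil'))))))

theorem cov206 {Γ X : Type*} [Group Γ] [MulAction Γ X] {T : Lst X J.n} {gen : ℕ → Γ} {A : Subgroup Γ} (h : J.Model T gen A) : Cov h.M (J.el gen) [L0, L1, L2, L3, L4, L5, L6] R [nat_lit 184, nat_lit 8, nat_lit 0, nat_lit 16] :=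
  cov_red (ctx h) h.hAV n206 (forall_mem_cons' (cov207 h) (forall_mem_cons' (cov214 h) (forall_mem_cons' (cov221 h) forall_mem_nil')))

theorem cov205 {Γ X : Type*} [Group Γ] [MulAction Γ X] {T : Lst X J.n} {gen : ℕ → Γ} {A : Subgroup Γ} (h : J.Model T gen A) : Cov h.M (J.el gen) [L0, L1, L2, L3, L4, L5, L6] R [nat_lit 184, nat_lit 8, nat_lit 0] :=
  cov_red (ctx h) h.hAV n205 (forall_mem_cons' (cov206 h) (forall_mem_cons' (cov222 h) forall_mem_nil'))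

theorem cov204 {Γ X : Type*} [Group Γ] [MulAction Γ X] {T : Lst X J.n} {gen : ℕ → Γ} {A : Subgroup Γ} (h : J.Model T gen A) : Cov h.M (J.el gen) [L0, L1, L2, L3, L4, L5, L6] R [nat_lit 184, nat_lit 8] :=
  cov_red (ctx h) h.hAV n204 (forall_mem_cons' (cov205 h) (forall_mem_cons' (cov238 h) forall_mem_nil'))

theorem cov203 {Γ X : Type*} [Group Γ] [MulAction Γ X] {T : Lst X J.n} {gen : ℕ → Γ} {A : Subgroup Γ} (h : J.Model T gen A) : Cov h.M (J.el gen) [L0, L1, L2, L3, L4, L5, L6] R [nat_lit 184, nat_lit 0, nat_lit 16, nat_lit 24, nat_lit 40] :=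
  cov_full (ctx h) n203

theorem cov202 {Γ X : Type*} [Group Γ] [MulAction Γ X] {T : Lst X J.n} {gen : ℕ → Γ} {A : Subgroup Γ} (h : J.Model T gen A) : Cov h.M (J.el gen) [L0, L1, L2, L3, L4, L5, L6] R [nat_lit 184, nat_lit 0, nat_lit 16, nat_lit 24, nat_lit 32, nat_lit 176] :=
  cov_full (ctx h) n202

theorem cov201 {Γ X : Type*} [Group Γ] [MulAction Γ X] {T : Lst X J.n} {gen : ℕ → Γ} {A : Subgroup Γ} (h : J.Model T gen A) : Cov h.M (J.el gen) [L0, L1, L2, L3, L4, L5, L6] R [nat_lit 184, nat_lit 0, nat_lit 16, nat_lit 24, nat_lit 32, nat_lit 88] :=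
  cov_full (ctx h) n201

theorem cov200 {Γ X : Type*} [Group Γ] [MulAction Γ X] {T : Lst X J.n} {gen : ℕ → Γ} {A : Subgroup Γ} (h : J.Model T gen A) : Cov h.M (J.el gen) [L0, L1, L2, L3, L4, L5, L6] R [nat_lit 184, nat_lit 0, nat_lit 16, nat_lit 24, nat_lit 32, nat_lit 80] :=
  cov_full (ctx h) n200

theorem cov199 {Γ X : Type*} [Group Γ] [MulAction Γ X] {T : Lst X J.n} {gen : ℕ → Γ} {A : Subgroup Γ} (h : J.Model T gen A) : Cov h.M (J.el gen) [L0, L1, L2, L3, L4, L5, L6] R [nat_lit 184, nat_lit 0, nat_lit 16, nat_lit 24, nat_lit 32, nat_lit 48] :=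
  cov_full (ctx h) n199

theorem cov198 {Γ X : Type*} [Group Γ] [MulAction Γ X] {T : Lst X J.n} {gen : ℕ → Γ} {A : Subgroup Γ} (h : J.Model T gen A) : Cov h.M (J.el gen) [L0, L1, L2, L3, L4, L5, L6] R [nat_lit 184, nat_lit 0, nat_lit 16, nat_lit 24, nat_lit 32, nat_lit 40] :=
  cov_full (ctx h) n198

theorem cov197 {Γ X : Type*} [Group Γ] [MulAction Γ X] {T : Lst X J.n} {gen : ℕ → Γ} {A : Subgroup Γ} (h : J.Model T gen A) : Cov h.M (J.el gen) [L0, L1, L2, L3, L4, L5, L6] R [nat_lit 184, nat_lit 0, nat_lit 16, nat_lit 24, nat_lit 32, nat_lit 8] :=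
  cov_full (ctx h) n197

theorem cov196 {Γ X : Type*} [Group Γ] [MulAction Γ X] {T : Lst X J.n} {gen : ℕ → Γ} {A : Subgroup Γ} (h : J.Model T gen A) : Cov h.M (J.el gen) [L0, L1, L2, L3, L4, L5, L6] R [nat_lit 184, nat_lit 0, nat_lit 16, nat_lit 24, nat_lit 32] :=
  cov_red (ctx h) h.hAV n196 (forall_mem_cons' (cov197 h) (forall_mem_cons' (cov198 h) (forall_mem_cons' (cov199 h) (forall_mem_cons' (cov200 h) (forall_mem_cons' (cov201 h) (forall_mem_cons' (cov202 h) forall_mem_nil'))))))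

theorem cov195 {Γ X : Type*} [Group Γ] [MulAction Γ X] {T : Lst X J.n} {gen : ℕ → Γ} {A : Subgroup Γ} (h : J.Model T gen A) : Cov h.M (J.el gen) [L0, L1, L2, L3, L4, L5, L6] R [nat_lit 184, nat_lit 0, nat_lit 16, nat_lit 24, nat_lit 8, nat_lit 128] :=
  cov_full (ctx h) n195

theorem cov194 {Γ X : Type*} [Group Γ] [MulAction Γ X] {T : Lst X J.n} {gen : ℕ → Γ} {A : Subgroup Γ} (h : J.Model T gen A) : Cov h.M (J.el gen) [L0, L1, L2, L3, L4, L5, L6] R [nat_lit 184, nat_lit 0, nat_lit 16, nat_lit 24, nat_lit 8, nat_lit 88] :=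
  cov_full (ctx h) n194

theorem cov193 {Γ X : Type*} [Group Γ] [MulAction Γ X] {T : Lst X J.n} {gen : ℕ → Γ} {A : Subgroup Γ} (h : J.Model T gen A) : Cov h.M (J.el gen) [L0, L1, L2, L3, L4, L5, L6] R [nat_lit 184, nat_lit 0, nat_lit 16, nat_lit 24, nat_lit 8, nat_lit 64] :=
  cov_full (ctx h) n193

theorem cov192 {Γ X : Type*} [Group Γ] [MulAction Γ X] {T : Lst X J.n} {gen : ℕ → Γ} {A : Subgroup Γ} (h : J.Model T gen A) : Cov h.M (J.el gen) [L0, L1, L2, L3, L4, L5, L6] R [nat_lit 184, nat_lit 0, nat_lit 16, nat_lit 24, nat_lit 8, nat_lit 96] :=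
  cov_full (ctx h) n192

theorem cov191 {Γ X : Type*} [Group Γ] [MulAction Γ X] {T : Lst X J.n} {gen : ℕ → Γ} {A : Subgroup Γ} (h : J.Model T gen A) : Cov h.M (J.el gen) [L0, L1, L2, L3, L4, L5, L6] R [nat_lit 184, nat_lit 0, nat_lit 16, nat_lit 24, nat_lit 8, nat_lit 144] :=
  cov_full (ctx h) n191

theorem cov190 {Γ X : Type*} [Group Γ] [MulAction Γ X] {T : Lst X J.n} {gen : ℕ → Γ} {A : Subgroup Γ} (h : J.Model T gen A) : Cov h.M (J.el gen) [L0, L1, L2, L3, L4, L5, L6] R [nat_lit 184, nat_lit 0, nat_lit 16, nat_lit 24, nat_lit 8, nat_lit 32] :=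
  cov_full (ctx h) n190

theorem cov189 {Γ X : Type*} [Group Γ] [MulAction Γ X] {T : Lst X J.n} {gen : ℕ → Γ} {A : Subgroup Γ} (h : J.Model T gen A) : Cov h.M (J.el gen) [L0, L1, L2, L3, L4, L5, L6] R [nat_lit 184, nat_lit 0, nat_lit 16, nat_lit 24, nat_lit 8] :=
  cov_red (ctx h) h.hAV n189 (forall_mem_cons' (cov190 h) (forall_mem_cons' (cov191 h) (forall_mem_cons' (cov192 h) (forall_mem_cons' (cov193 h) (forall_mem_cons' (cov194 h) (forall_mem_cons' (cov195 h) forall_mem_nil'))))))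

theorem cov188 {Γ X : Type*} [Group Γ] [MulAction Γ X] {T : Lst X J.n} {gen : ℕ → Γ} {A : Subgroup Γ} (h : J.Model T gen A) : Cov h.M (J.el gen) [L0, L1, L2, L3, L4, L5, L6] R [nat_lit 184, nat_lit 0, nat_lit 16, nat_lit 24] :=
  cov_red (ctx h) h.hAV n188 (forall_mem_cons' (cov189 h) (forall_mem_cons' (cov196 h) (forall_mem_cons' (cov203 h) forall_mem_nil')))

theorem cov187 {Γ X : Type*} [Group Γ] [MulAction Γ X] {T : Lst X J.n} {gen : ℕ → Γ} {A : Subgroup Γ} (h : J.Model T gen A) : Cov h.M (J.el gen) [L0, L1, L2, L3, L4, L5, L6] R [nat_lit 184, nat_lit 0, nat_lit 16, nat_lit 8, nat_lit 136] :=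
  cov_full (ctx h) n187

theorem cov186 {Γ X : Type*} [Group Γ] [MulAction Γ X] {T : Lst X J.n} {gen : ℕ → Γ} {A : Subgroup Γ} (h : J.Model T gen A) : Cov h.M (J.el gen) [L0, L1, L2, L3, L4, L5, L6] R [nat_lit 184, nat_lit 0, nat_lit 16, nat_lit 8, nat_lit 32, nat_lit 160] :=
  cov_full (ctx h) n186

theorem cov185 {Γ X : Type*} [Group Γ] [MulAction Γ X] {T : Lst X J.n} {gen : ℕ → Γ} {A : Subgroup Γ} (h : J.Model T gen A) : Cov h.M (J.el gen) [L0, L1, L2, L3, L4, L5, L6] R [nat_lit 184, nat_lit 0, nat_lit 16, nat_lit 8, nat_lit 32, nat_lit 64] :=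
  cov_full (ctx h) n185

theorem cov184 {Γ X : Type*} [Group Γ] [MulAction Γ X] {T : Lst X J.n} {gen : ℕ → Γ} {A : Subgroup Γ} (h : J.Model T gen A) : Cov h.M (J.el gen) [L0, L1, L2, L3, L4, L5, L6] R [nat_lit 184, nat_lit 0, nat_lit 16, nat_lit 8, nat_lit 32, nat_lit 56] :=
  cov_full (ctx h) n184

theorem cov183 {Γ X : Type*} [Group Γ] [MulAction Γ X] {T : Lst X J.n} {gen : ℕ → Γ} {A : Subgroup Γ} (h : J.Model T gen A) : Cov h.M (J.el gen) [L0, L1, L2, L3, L4, L5, L6] R [nat_lit 184, nat_lit 0, nat_lit 16, nat_lit 8, nat_lit 32, nat_lit 120] :=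
  cov_full (ctx h) n183

theorem cov182 {Γ X : Type*} [Group Γ] [MulAction Γ X] {T : Lst X J.n} {gen : ℕ → Γ} {A : Subgroup Γ} (h : J.Model T gen A) : Cov h.M (J.el gen) [L0, L1, L2, L3, L4, L5, L6] R [nat_lit 184, nat_lit 0, nat_lit 16, nat_lit 8, nat_lit 32, nat_lit 136] :=
  cov_full (ctx h) n182

theorem cov181 {Γ X : Type*} [Group Γ] [MulAction Γ X] {T : Lst X J.n} {gen : ℕ → Γ} {A : Subgroup Γ} (h : J.Model T gen A) : Cov h.M (J.el gen) [L0, L1, L2, L3, L4, L5, L6] R [nat_lit 184, nat_lit 0, nat_lit 16, nat_lit 8, nat_lit 32, nat_lit 24] :=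
  cov_full (ctx h) n181

theorem cov180 {Γ X : Type*} [Group Γ] [MulAction Γ X] {T : Lst X J.n} {gen : ℕ → Γ} {A : Subgroup Γ} (h : J.Model T gen A) : Cov h.M (J.el gen) [L0, L1, L2, L3, L4, L5, L6] R [nat_lit 184, nat_lit 0, nat_lit 16, nat_lit 8, nat_lit 32] :=
  cov_red (ctx h) h.hAV n180 (forall_mem_cons' (cov181 h) (forall_mem_cons' (cov182 h) (forall_mem_cons' (cov183 h) (forall_mem_cons' (cov184 h) (forall_mem_cons' (cov185 h) (forall_mem_cons' (cov186 h) forall_mem_nil'))))))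

theorem cov179 {Γ X : Type*} [Group Γ] [MulAction Γ X] {T : Lst X J.n} {gen : ℕ → Γ} {A : Subgroup Γ} (h : J.Model T gen A) : Cov h.M (J.el gen) [L0, L1, L2, L3, L4, L5, L6] R [nat_lit 184, nat_lit 0, nat_lit 16, nat_lit 8, nat_lit 24, nat_lit 104] :=
  cov_full (ctx h) n179

theorem cov178 {Γ X : Type*} [Group Γ] [MulAction Γ X] {T : Lst X J.n} {gen : ℕ → Γ} {A : Subgroup Γ} (h : J.Model T gen A) : Cov h.M (J.el gen) [L0, L1, L2, L3, L4, L5, L6] R [nat_lit 184, nat_lit 0, nat_lit 16, nat_lit 8, nat_lit 24, nat_lit 152] :=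
  cov_full (ctx h) n178

theorem cov177 {Γ X : Type*} [Group Γ] [MulAction Γ X] {T : Lst X J.n} {gen : ℕ → Γ} {A : Subgroup Γ} (h : J.Model T gen A) : Cov h.M (J.el gen) [L0, L1, L2, L3, L4, L5, L6] R [nat_lit 184, nat_lit 0, nat_lit 16, nat_lit 8, nat_lit 24, nat_lit 168] :=
  cov_full (ctx h) n177

theorem cov176 {Γ X : Type*} [Group Γ] [MulAction Γ X] {T : Lst X J.n} {gen : ℕ → Γ} {A : Subgroup Γ} (h : J.Model T gen A) : Cov h.M (J.el gen) [L0, L1, L2, L3, L4, L5, L6] R [nat_lit 184, nat_lit 0, nat_lit 16, nat_lit 8, nat_lit 24, nat_lit 80] :=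
  cov_full (ctx h) n176

theorem cov175 {Γ X : Type*} [Group Γ] [MulAction Γ X] {T : Lst X J.n} {gen : ℕ → Γ} {A : Subgroup Γ} (h : J.Model T gen A) : Cov h.M (J.el gen) [L0, L1, L2, L3, L4, L5, L6] R [nat_lit 184, nat_lit 0, nat_lit 16, nat_lit 8, nat_lit 24, nat_lit 144] :=
  cov_full (ctx h) n175

theorem cov174 {Γ X : Type*} [Group Γ] [MulAction Γ X] {T : Lst X J.n} {gen : ℕ → Γ} {A : Subgroup Γ} (h : J.Model T gen A) : Cov h.M (J.el gen) [L0, L1, L2, L3, L4, L5, L6] R [nat_lit 184, nat_lit 0, nat_lit 16, nat_lit 8, nat_lit 24, nat_lit 32] :=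
  cov_full (ctx h) n174

theorem cov173 {Γ X : Type*} [Group Γ] [MulAction Γ X] {T : Lst X J.n} {gen : ℕ → Γ} {A : Subgroup Γ} (h : J.Model T gen A) : Cov h.M (J.el gen) [L0, L1, L2, L3, L4, L5, L6] R [nat_lit 184, nat_lit 0, nat_lit 16, nat_lit 8, nat_lit 24] :=
  cov_red (ctx h) h.hAV n173 (forall_mem_cons' (cov174 h) (forall_mem_cons' (cov175 h) (forall_mem_cons' (cov176 h) (forall_mem_cons' (cov177 h) (forall_mem_cons' (cov178 h) (forall_mem_cons' (cov179 h) forall_mem_nil'))))))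

theorem cov172 {Γ X : Type*} [Group Γ] [MulAction Γ X] {T : Lst X J.n} {gen : ℕ → Γ} {A : Subgroup Γ} (h : J.Model T gen A) : Cov h.M (J.el gen) [L0, L1, L2, L3, L4, L5, L6] R [nat_lit 184, nat_lit 0, nat_lit 16, nat_lit 8] :=
  cov_red (ctx h) h.hAV n172 (forall_mem_cons' (cov173 h) (forall_mem_cons' (cov180 h) (forall_mem_cons' (cov187 h) forall_mem_nil')))

theorem cov171 {Γ X : Type*} [Group Γ] [MulAction Γ X] {T : Lst X J.n} {gen : ℕ → Γ} {A : Subgroup Γ} (h : J.Model T gen A) : Cov h.M (J.el gen) [L0, L1, L2, L3, L4, L5, L6] R [nat_lit 184, nat_lit 0, nat_lit 16] :=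
  cov_red (ctx h) h.hAV n171 (forall_mem_cons' (cov172 h) (forall_mem_cons' (cov188 h) forall_mem_nil'))

theorem cov170 {Γ X : Type*} [Group Γ] [MulAction Γ X] {T : Lst X J.n} {gen : ℕ → Γ} {A : Subgroup Γ} (h : J.Model T gen A) : Cov h.M (J.el gen) [L0, L1, L2, L3, L4, L5, L6] R [nat_lit 184, nat_lit 0, nat_lit 8, nat_lit 24, nat_lit 40] :=
  cov_full (ctx h) n170

theorem cov169 {Γ X : Type*} [Group Γ] [MulAction Γ X] {T : Lst X J.n} {gen : ℕ → Γ} {A : Subgroup Γ} (h : J.Model T gen A) : Cov h.M (J.el gen) [L0, L1, L2, L3, L4, L5, L6] R [nat_lit 184, nat_lit 0, nat_lit 8, nat_lit 24, nat_lit 32, nat_lit 104] :=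
  cov_full (ctx h) n169

theorem cov168 {Γ X : Type*} [Group Γ] [MulAction Γ X] {T : Lst X J.n} {gen : ℕ → Γ} {A : Subgroup Γ} (h : J.Model T gen A) : Cov h.M (J.el gen) [L0, L1, L2, L3, L4, L5, L6] R [nat_lit 184, nat_lit 0, nat_lit 8, nat_lit 24, nat_lit 32, nat_lit 72] :=
  cov_full (ctx h) n168

theorem cov167 {Γ X : Type*} [Group Γ] [MulAction Γ X] {T : Lst X J.n} {gen : ℕ → Γ} {A : Subgroup Γ} (h : J.Model T gen A) : Cov h.M (J.el gen) [L0, L1, L2, L3, L4, L5, L6] R [nat_lit 184, nat_lit 0, nat_lit 8, nat_lit 24, nat_lit 32, nat_lit 80] :=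
  cov_full (ctx h) n167

theorem cov166 {Γ X : Type*} [Group Γ] [MulAction Γ X] {T : Lst X J.n} {gen : ℕ → Γ} {A : Subgroup Γ} (h : J.Model T gen A) : Cov h.M (J.el gen) [L0, L1, L2, L3, L4, L5, L6] R [nat_lit 184, nat_lit 0, nat_lit 8, nat_lit 24, nat_lit 32, nat_lit 144] :=
  cov_full (ctx h) n166

theorem cov165 {Γ X : Type*} [Group Γ] [MulAction Γ X] {T : Lst X J.n} {gen : ℕ → Γ} {A : Subgroup Γ} (h : J.Model T gen A) : Cov h.M (J.el gen) [L0, L1, L2, L3, L4, L5, L6] R [nat_lit 184, nat_lit 0, nat_lit 8, nat_lit 24, nat_lit 32, nat_lit 112] :=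
  cov_full (ctx h) n165

theorem cov164 {Γ X : Type*} [Group Γ] [MulAction Γ X] {T : Lst X J.n} {gen : ℕ → Γ} {A : Subgroup Γ} (h : J.Model T gen A) : Cov h.M (J.el gen) [L0, L1, L2, L3, L4, L5, L6] R [nat_lit 184, nat_lit 0, nat_lit 8, nat_lit 24, nat_lit 32, nat_lit 16] :=
  cov_full (ctx h) n164

theorem cov163 {Γ X : Type*} [Group Γ] [MulAction Γ X] {T : Lst X J.n} {gen : ℕ → Γ} {A : Subgroup Γ} (h : J.Model T gen A) : Cov h.M (J.el gen) [L0, L1, L2, L3, L4, L5, L6] R [nat_lit 184, nat_lit 0, nat_lit 8, nat_lit 24, nat_lit 32] :=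
  cov_red (ctx h) h.hAV n163 (forall_mem_cons' (cov164 h) (forall_mem_cons' (cov165 h) (forall_mem_cons' (cov166 h) (forall_mem_cons' (cov167 h) (forall_mem_cons' (cov168 h) (forall_mem_cons' (cov169 h) forall_mem_nil'))))))

theorem cov162 {Γ X : Type*} [Group Γ] [MulAction Γ X] {T : Lst X J.n} {gen : ℕ → Γ} {A : Subgroup Γ} (h : J.Model T gen A) : Cov h.M (J.el gen) [L0, L1, L2, L3, L4, L5, L6] R [nat_lit 184, nat_lit 0, nat_lit 8, nat_lit 24, nat_lit 16, nat_lit 104] :=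
  cov_full (ctx h) n162

theorem cov161 {Γ X : Type*} [Group Γ] [MulAction Γ X] {T : Lst X J.n} {gen : ℕ → Γ} {A : Subgroup Γ} (h : J.Model T gen A) : Cov h.M (J.el gen) [L0, L1, L2, L3, L4, L5, L6] R [nat_lit 184, nat_lit 0, nat_lit 8, nat_lit 24, nat_lit 16, nat_lit 88] :=
  cov_full (ctx h) n161

theorem cov160 {Γ X : Type*} [Group Γ] [MulAction Γ X] {T : Lst X J.n} {gen : ℕ → Γ} {A : Subgroup Γ} (h : J.Model T gen A) : Cov h.M (J.el gen) [L0, L1, L2, L3, L4, L5, L6] R [nat_lit 184, nat_lit 0, nat_lit 8, nat_lit 24, nat_lit 16, nat_lit 64] :=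
  cov_full (ctx h) n160

theorem cov159 {Γ X : Type*} [Group Γ] [MulAction Γ X] {T : Lst X J.n} {gen : ℕ → Γ} {A : Subgroup Γ} (h : J.Model T gen A) : Cov h.M (J.el gen) [L0, L1, L2, L3, L4, L5, L6] R [nat_lit 184, nat_lit 0, nat_lit 8, nat_lit 24, nat_lit 16, nat_lit 96] :=
  cov_full (ctx h) n159

theorem cov158 {Γ X : Type*} [Group Γ] [MulAction Γ X] {T : Lst X J.n} {gen : ℕ → Γ} {A : Subgroup Γ} (h : J.Model T gen A) : Cov h.M (J.el gen) [L0, L1, L2, L3, L4, L5, L6] R [nat_lit 184, nat_lit 0, nat_lit 8, nat_lit 24, nat_lit 16, nat_lit 144] :=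
  cov_full (ctx h) n158

theorem cov157 {Γ X : Type*} [Group Γ] [MulAction Γ X] {T : Lst X J.n} {gen : ℕ → Γ} {A : Subgroup Γ} (h : J.Model T gen A) : Cov h.M (J.el gen) [L0, L1, L2, L3, L4, L5, L6] R [nat_lit 184, nat_lit 0, nat_lit 8, nat_lit 24, nat_lit 16, nat_lit 32] :=
  cov_full (ctx h) n157

theorem cov156 {Γ X : Type*} [Group Γ] [MulAction Γ X] {T : Lst X J.n} {gen : ℕ → Γ} {A : Subgroup Γ} (h : J.Model T gen A) : Cov h.M (J.el gen) [L0, L1, L2, L3, L4, L5, L6] R [nat_lit 184, nat_lit 0, nat_lit 8, nat_lit 24, nat_lit 16] :=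
  cov_red (ctx h) h.hAV n156 (forall_mem_cons' (cov157 h) (forall_mem_cons' (cov158 h) (forall_mem_cons' (cov159 h) (forall_mem_cons' (cov160 h) (forall_mem_cons' (cov161 h) (forall_mem_cons' (cov162 h) forall_mem_nil'))))))

theorem cov155 {Γ X : Type*} [Group Γ] [MulAction Γ X] {T : Lst X J.n} {gen : ℕ → Γ} {A : Subgroup Γ} (h : J.Model T gen A) : Cov h.M (J.el gen) [L0, L1, L2, L3, L4, L5, L6] R [nat_lit 184, nat_lit 0, nat_lit 8, nat_lit 24] :=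
  cov_red (ctx h) h.hAV n155 (forall_mem_cons' (cov156 h) (forall_mem_cons' (cov163 h) (forall_mem_cons' (cov170 h) forall_mem_nil')))

theorem cov154 {Γ X : Type*} [Group Γ] [MulAction Γ X] {T : Lst X J.n} {gen : ℕ → Γ} {A : Subgroup Γ} (h : J.Model T gen A) : Cov h.M (J.el gen) [L0, L1, L2, L3, L4, L5, L6] R [nat_lit 184, nat_lit 0, nat_lit 8, nat_lit 16, nat_lit 136] :=
  cov_full (ctx h) n154

theorem cov153 {Γ X : Type*} [Group Γ] [MulAction Γ X] {T : Lst X J.n} {gen : ℕ → Γ} {A : Subgroup Γ} (h : J.Model T gen A) : Cov h.M (J.el gen) [L0, L1, L2, L3, L4, L5, L6] R [nat_lit 184, nat_lit 0, nat_lit 8, nat_lit 16, nat_lit 32, nat_lit 152] :=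
  cov_full (ctx h) n153

theorem cov152 {Γ X : Type*} [Group Γ] [MulAction Γ X] {T : Lst X J.n} {gen : ℕ → Γ} {A : Subgroup Γ} (h : J.Model T gen A) : Cov h.M (J.el gen) [L0, L1, L2, L3, L4, L5, L6] R [nat_lit 184, nat_lit 0, nat_lit 8, nat_lit 16, nat_lit 32, nat_lit 72] :=
  cov_full (ctx h) n152

theorem cov151 {Γ X : Type*} [Group Γ] [MulAction Γ X] {T : Lst X J.n} {gen : ℕ → Γ} {A : Subgroup Γ} (h : J.Model T gen A) : Cov h.M (J.el gen) [L0, L1, L2, L3, L4, L5, L6] R [nat_lit 184, nat_lit 0, nat_lit 8, nat_lit 16, nat_lit 32, nat_lit 80] :=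
  cov_full (ctx h) n151

theorem cov150 {Γ X : Type*} [Group Γ] [MulAction Γ X] {T : Lst X J.n} {gen : ℕ → Γ} {A : Subgroup Γ} (h : J.Model T gen A) : Cov h.M (J.el gen) [L0, L1, L2, L3, L4, L5, L6] R [nat_lit 184, nat_lit 0, nat_lit 8, nat_lit 16, nat_lit 32, nat_lit 144] :=
  cov_full (ctx h) n150

theorem cov149 {Γ X : Type*} [Group Γ] [MulAction Γ X] {T : Lst X J.n} {gen : ℕ → Γ} {A : Subgroup Γ} (h : J.Model T gen A) : Cov h.M (J.el gen) [L0, L1, L2, L3, L4, L5, L6] R [nat_lit 184, nat_lit 0, nat_lit 8, nat_lit 16, nat_lit 32, nat_lit 112] :=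
  cov_full (ctx h) n149

theorem cov148 {Γ X : Type*} [Group Γ] [MulAction Γ X] {T : Lst X J.n} {gen : ℕ → Γ} {A : Subgroup Γ} (h : J.Model T gen A) : Cov h.M (J.el gen) [L0, L1, L2, L3, L4, L5, L6] R [nat_lit 184, nat_lit 0, nat_lit 8, nat_lit 16, nat_lit 32, nat_lit 24] :=
  cov_full (ctx h) n148

theorem cov147 {Γ X : Type*} [Group Γ] [MulAction Γ X] {T : Lst X J.n} {gen : ℕ → Γ} {A : Subgroup Γ} (h : J.Model T gen A) : Cov h.M (J.el gen) [L0, L1, L2, L3, L4, L5, L6] R [nat_lit 184, nat_lit 0, nat_lit 8, nat_lit 16, nat_lit 32] :=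
  cov_red (ctx h) h.hAV n147 (forall_mem_cons' (cov148 h) (forall_mem_cons' (cov149 h) (forall_mem_cons' (cov150 h) (forall_mem_cons' (cov151 h) (forall_mem_cons' (cov152 h) (forall_mem_cons' (cov153 h) forall_mem_nil'))))))

theorem cov146 {Γ X : Type*} [Group Γ] [MulAction Γ X] {T : Lst X J.n} {gen : ℕ → Γ} {A : Subgroup Γ} (h : J.Model T gen A) : Cov h.M (J.el gen) [L0, L1, L2, L3, L4, L5, L6] R [nat_lit 184, nat_lit 0, nat_lit 8, nat_lit 16, nat_lit 24, nat_lit 104] :=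
  cov_full (ctx h) n146

theorem cov145 {Γ X : Type*} [Group Γ] [MulAction Γ X] {T : Lst X J.n} {gen : ℕ → Γ} {A : Subgroup Γ} (h : J.Model T gen A) : Cov h.M (J.el gen) [L0, L1, L2, L3, L4, L5, L6] R [nat_lit 184, nat_lit 0, nat_lit 8, nat_lit 16, nat_lit 24, nat_lit 152] :=
  cov_full (ctx h) n145

theorem cov144 {Γ X : Type*} [Group Γ] [MulAction Γ X] {T : Lst X J.n} {gen : ℕ → Γ} {A : Subgroup Γ} (h : J.Model T gen A) : Cov h.M (J.el gen) [L0, L1, L2, L3, L4, L5, L6] R [nat_lit 184, nat_lit 0, nat_lit 8, nat_lit 16, nat_lit 24, nat_lit 72] :=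
  cov_full (ctx h) n144

theorem cov143 {Γ X : Type*} [Group Γ] [MulAction Γ X] {T : Lst X J.n} {gen : ℕ → Γ} {A : Subgroup Γ} (h : J.Model T gen A) : Cov h.M (J.el gen) [L0, L1, L2, L3, L4, L5, L6] R [nat_lit 184, nat_lit 0, nat_lit 8, nat_lit 16, nat_lit 24, nat_lit 56] :=
  cov_full (ctx h) n143

theorem cov142 {Γ X : Type*} [Group Γ] [MulAction Γ X] {T : Lst X J.n} {gen : ℕ → Γ} {A : Subgroup Γ} (h : J.Model T gen A) : Cov h.M (J.el gen) [L0, L1, L2, L3, L4, L5, L6] R [nat_lit 184, nat_lit 0, nat_lit 8, nat_lit 16, nat_lit 24, nat_lit 120] :=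
  cov_full (ctx h) n142

theorem cov141 {Γ X : Type*} [Group Γ] [MulAction Γ X] {T : Lst X J.n} {gen : ℕ → Γ} {A : Subgroup Γ} (h : J.Model T gen A) : Cov h.M (J.el gen) [L0, L1, L2, L3, L4, L5, L6] R [nat_lit 184, nat_lit 0, nat_lit 8, nat_lit 16, nat_lit 24, nat_lit 32] :=
  cov_full (ctx h) n141

theorem cov140 {Γ X : Type*} [Group Γ] [MulAction Γ X] {T : Lst X J.n} {gen : ℕ → Γ} {A : Subgroup Γ} (h : J.Model T gen A) : Cov h.M (J.el gen) [L0, L1, L2, L3, L4, L5, L6] R [nat_lit 184, nat_lit 0, nat_lit 8, nat_lit 16, nat_lit 24] :=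
  cov_red (ctx h) h.hAV n140 (forall_mem_cons' (cov141 h) (forall_mem_cons' (cov142 h) (forall_mem_cons' (cov143 h) (forall_mem_cons' (cov144 h) (forall_mem_cons' (cov145 h) (forall_mem_cons' (cov146 h) forall_mem_nil'))))))

theorem cov139 {Γ X : Type*} [Group Γ] [MulAction Γ X] {T : Lst X J.n} {gen : ℕ → Γ} {A : Subgroup Γ} (h : J.Model T gen A) : Cov h.M (J.el gen) [L0, L1, L2, L3, L4, L5, L6] R [nat_lit 184, nat_lit 0, nat_lit 8, nat_lit 16] :=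
  cov_red (ctx h) h.hAV n139 (forall_mem_cons' (cov140 h) (forall_mem_cons' (cov147 h) (forall_mem_cons' (cov154 h) forall_mem_nil')))

theorem cov138 {Γ X : Type*} [Group Γ] [MulAction Γ X] {T : Lst X J.n} {gen : ℕ → Γ} {A : Subgroup Γ} (h : J.Model T gen A) : Cov h.M (J.el gen) [L0, L1, L2, L3, L4, L5, L6] R [nat_lit 184, nat_lit 0, nat_lit 8] :=
  cov_red (ctx h) h.hAV n138 (forall_mem_cons' (cov139 h) (forall_mem_cons' (cov155 h) forall_mem_nil'))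

theorem cov137 {Γ X : Type*} [Group Γ] [MulAction Γ X] {T : Lst X J.n} {gen : ℕ → Γ} {A : Subgroup Γ} (h : J.Model T gen A) : Cov h.M (J.el gen) [L0, L1, L2, L3, L4, L5, L6] R [nat_lit 184, nat_lit 0] :=
  cov_red (ctx h) h.hAV n137 (forall_mem_cons' (cov138 h) (forall_mem_cons' (cov171 h) forall_mem_nil'))

theorem cov136 {Γ X : Type*} [Group Γ] [MulAction Γ X] {T : Lst X J.n} {gen : ℕ → Γ} {A : Subgroup Γ} (h : J.Model T gen A) : Cov h.M (J.el gen) [L0, L1, L2, L3, L4, L5, L6] R [nat_lit 184] :=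
  cov_red (ctx h) h.hAV n136 (forall_mem_cons' (cov137 h) (forall_mem_cons' (cov204 h) forall_mem_nil'))

theorem cov135 {Γ X : Type*} [Group Γ] [MulAction Γ X] {T : Lst X J.n} {gen : ℕ → Γ} {A : Subgroup Γ} (h : J.Model T gen A) : Cov h.M (J.el gen) [L0, L1, L2, L3, L4, L5, L6] R [nat_lit 0, nat_lit 184, nat_lit 16, nat_lit 24, nat_lit 136] :=
  cov_full (ctx h) n135

theorem cov134 {Γ X : Type*} [Group Γ] [MulAction Γ X] {T : Lst X J.n} {gen : ℕ → Γ} {A : Subgroup Γ} (h : J.Model T gen A) : Cov h.M (J.el gen) [L0, L1, L2, L3, L4, L5, L6] R [nat_lit 0, nat_lit 184, nat_lit 16, nat_lit 24, nat_lit 32, nat_lit 104] :=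
  cov_full (ctx h) n134

theorem cov133 {Γ X : Type*} [Group Γ] [MulAction Γ X] {T : Lst X J.n} {gen : ℕ → Γ} {A : Subgroup Γ} (h : J.Model T gen A) : Cov h.M (J.el gen) [L0, L1, L2, L3, L4, L5, L6] R [nat_lit 0, nat_lit 184, nat_lit 16, nat_lit 24, nat_lit 32, nat_lit 88] :=
  cov_full (ctx h) n133

theorem cov132 {Γ X : Type*} [Group Γ] [MulAction Γ X] {T : Lst X J.n} {gen : ℕ → Γ} {A : Subgroup Γ} (h : J.Model T gen A) : Cov h.M (J.el gen) [L0, L1, L2, L3, L4, L5, L6] R [nat_lit 0, nat_lit 184, nat_lit 16, nat_lit 24, nat_lit 32, nat_lit 56] :=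
  cov_full (ctx h) n132

theorem cov131 {Γ X : Type*} [Group Γ] [MulAction Γ X] {T : Lst X J.n} {gen : ℕ → Γ} {A : Subgroup Γ} (h : J.Model T gen A) : Cov h.M (J.el gen) [L0, L1, L2, L3, L4, L5, L6] R [nat_lit 0, nat_lit 184, nat_lit 16, nat_lit 24, nat_lit 32, nat_lit 144] :=
  cov_full (ctx h) n131

theorem cov130 {Γ X : Type*} [Group Γ] [MulAction Γ X] {T : Lst X J.n} {gen : ℕ → Γ} {A : Subgroup Γ} (h : J.Model T gen A) : Cov h.M (J.el gen) [L0, L1, L2, L3, L4, L5, L6] R [nat_lit 0, nat_lit 184, nat_lit 16, nat_lit 24, nat_lit 32, nat_lit 136] :=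
  cov_full (ctx h) n130

theorem cov129 {Γ X : Type*} [Group Γ] [MulAction Γ X] {T : Lst X J.n} {gen : ℕ → Γ} {A : Subgroup Γ} (h : J.Model T gen A) : Cov h.M (J.el gen) [L0, L1, L2, L3, L4, L5, L6] R [nat_lit 0, nat_lit 184, nat_lit 16, nat_lit 24, nat_lit 32, nat_lit 8] :=
  cov_full (ctx h) n129

theorem cov128 {Γ X : Type*} [Group Γ] [MulAction Γ X] {T : Lst X J.n} {gen : ℕ → Γ} {A : Subgroup Γ} (h : J.Model T gen A) : Cov h.M (J.el gen) [L0, L1, L2, L3, L4, L5, L6] R [nat_lit 0, nat_lit 184, nat_lit 16, nat_lit 24, nat_lit 32] :=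
  cov_red (ctx h) h.hAV n128 (forall_mem_cons' (cov129 h) (forall_mem_cons' (cov130 h) (forall_mem_cons' (cov131 h) (forall_mem_cons' (cov132 h) (forall_mem_cons' (cov133 h) (forall_mem_cons' (cov134 h) forall_mem_nil'))))))

theorem cov127 {Γ X : Type*} [Group Γ] [MulAction Γ X] {T : Lst X J.n} {gen : ℕ → Γ} {A : Subgroup Γ} (h : J.Model T gen A) : Cov h.M (J.el gen) [L0, L1, L2, L3, L4, L5, L6] R [nat_lit 0, nat_lit 184, nat_lit 16, nat_lit 24, nat_lit 8, nat_lit 104] :=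
  cov_full (ctx h) n127

theorem cov126 {Γ X : Type*} [Group Γ] [MulAction Γ X] {T : Lst X J.n} {gen : ℕ → Γ} {A : Subgroup Γ} (h : J.Model T gen A) : Cov h.M (J.el gen) [L0, L1, L2, L3, L4, L5, L6] R [nat_lit 0, nat_lit 184, nat_lit 16, nat_lit 24, nat_lit 8, nat_lit 160] :=
  cov_full (ctx h) n126

theorem cov125 {Γ X : Type*} [Group Γ] [MulAction Γ X] {T : Lst X J.n} {gen : ℕ → Γ} {A : Subgroup Γ} (h : J.Model T gen A) : Cov h.M (J.el gen) [L0, L1, L2, L3, L4, L5, L6] R [nat_lit 0, nat_lit 184, nat_lit 16, nat_lit 24, nat_lit 8, nat_lit 64] :=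
  cov_full (ctx h) n125

theorem cov124 {Γ X : Type*} [Group Γ] [MulAction Γ X] {T : Lst X J.n} {gen : ℕ → Γ} {A : Subgroup Γ} (h : J.Model T gen A) : Cov h.M (J.el gen) [L0, L1, L2, L3, L4, L5, L6] R [nat_lit 0, nat_lit 184, nat_lit 16, nat_lit 24, nat_lit 8, nat_lit 96] :=
  cov_full (ctx h) n124

theorem cov123 {Γ X : Type*} [Group Γ] [MulAction Γ X] {T : Lst X J.n} {gen : ℕ → Γ} {A : Subgroup Γ} (h : J.Model T gen A) : Cov h.M (J.el gen) [L0, L1, L2, L3, L4, L5, L6] R [nat_lit 0, nat_lit 184, nat_lit 16, nat_lit 24, nat_lit 8, nat_lit 144] :=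
  cov_full (ctx h) n123

theorem cov122 {Γ X : Type*} [Group Γ] [MulAction Γ X] {T : Lst X J.n} {gen : ℕ → Γ} {A : Subgroup Γ} (h : J.Model T gen A) : Cov h.M (J.el gen) [L0, L1, L2, L3, L4, L5, L6] R [nat_lit 0, nat_lit 184, nat_lit 16, nat_lit 24, nat_lit 8, nat_lit 32] :=
  cov_full (ctx h) n122

theorem cov121 {Γ X : Type*} [Group Γ] [MulAction Γ X] {T : Lst X J.n} {gen : ℕ → Γ} {A : Subgroup Γ} (h : J.Model T gen A) : Cov h.M (J.el gen) [L0, L1, L2, L3, L4, L5, L6] R [nat_lit 0, nat_lit 184, nat_lit 16, nat_lit 24, nat_lit 8] :=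
  cov_red (ctx h) h.hAV n121 (forall_mem_cons' (cov122 h) (forall_mem_cons' (cov123 h) (forall_mem_cons' (cov124 h) (forall_mem_cons' (cov125 h) (forall_mem_cons' (cov126 h) (forall_mem_cons' (cov127 h) forall_mem_nil'))))))

theorem cov120 {Γ X : Type*} [Group Γ] [MulAction Γ X] {T : Lst X J.n} {gen : ℕ → Γ} {A : Subgroup Γ} (h : J.Model T gen A) : Cov h.M (J.el gen) [L0, L1, L2, L3, L4, L5, L6] R [nat_lit 0, nat_lit 184, nat_lit 16, nat_lit 24] :=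
  cov_red (ctx h) h.hAV n120 (forall_mem_cons' (cov121 h) (forall_mem_cons' (cov128 h) (forall_mem_cons' (cov135 h) forall_mem_nil')))

theorem cov119 {Γ X : Type*} [Group Γ] [MulAction Γ X] {T : Lst X J.n} {gen : ℕ → Γ} {A : Subgroup Γ} (h : J.Model T gen A) : Cov h.M (J.el gen) [L0, L1, L2, L3, L4, L5, L6] R [nat_lit 0, nat_lit 184, nat_lit 16, nat_lit 8, nat_lit 136] :=
  cov_full (ctx h) n119

theorem cov118 {Γ X : Type*} [Group Γ] [MulAction Γ X] {T : Lst X J.n} {gen : ℕ → Γ} {A : Subgroup Γ} (h : J.Model T gen A) : Cov h.M (J.el gen) [L0, L1, L2, L3, L4, L5, L6] R [nat_lit 0, nat_lit 184, nat_lit 16, nat_lit 8, nat_lit 32, nat_lit 88] :=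
  cov_full (ctx h) n118

theorem cov117 {Γ X : Type*} [Group Γ] [MulAction Γ X] {T : Lst X J.n} {gen : ℕ → Γ} {A : Subgroup Γ} (h : J.Model T gen A) : Cov h.M (J.el gen) [L0, L1, L2, L3, L4, L5, L6] R [nat_lit 0, nat_lit 184, nat_lit 16, nat_lit 8, nat_lit 32, nat_lit 168] :=
  cov_full (ctx h) n117

theorem cov116 {Γ X : Type*} [Group Γ] [MulAction Γ X] {T : Lst X J.n} {gen : ℕ → Γ} {A : Subgroup Γ} (h : J.Model T gen A) : Cov h.M (J.el gen) [L0, L1, L2, L3, L4, L5, L6] R [nat_lit 0, nat_lit 184, nat_lit 16, nat_lit 8, nat_lit 32, nat_lit 80] :=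
  cov_full (ctx h) n116

theorem cov115 {Γ X : Type*} [Group Γ] [MulAction Γ X] {T : Lst X J.n} {gen : ℕ → Γ} {A : Subgroup Γ} (h : J.Model T gen A) : Cov h.M (J.el gen) [L0, L1, L2, L3, L4, L5, L6] R [nat_lit 0, nat_lit 184, nat_lit 16, nat_lit 8, nat_lit 32, nat_lit 120] :=
  cov_full (ctx h) n115

theorem cov114 {Γ X : Type*} [Group Γ] [MulAction Γ X] {T : Lst X J.n} {gen : ℕ → Γ} {A : Subgroup Γ} (h : J.Model T gen A) : Cov h.M (J.el gen) [L0, L1, L2, L3, L4, L5, L6] R [nat_lit 0, nat_lit 184, nat_lit 16, nat_lit 8, nat_lit 32, nat_lit 40] :=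
  cov_full (ctx h) n114

theorem cov113 {Γ X : Type*} [Group Γ] [MulAction Γ X] {T : Lst X J.n} {gen : ℕ → Γ} {A : Subgroup Γ} (h : J.Model T gen A) : Cov h.M (J.el gen) [L0, L1, L2, L3, L4, L5, L6] R [nat_lit 0, nat_lit 184, nat_lit 16, nat_lit 8, nat_lit 32, nat_lit 24] :=
  cov_full (ctx h) n113

theorem cov112 {Γ X : Type*} [Group Γ] [MulAction Γ X] {T : Lst X J.n} {gen : ℕ → Γ} {A : Subgroup Γ} (h : J.Model T gen A) : Cov h.M (J.el gen) [L0, L1, L2, L3, L4, L5, L6] R [nat_lit 0, nat_lit 184, nat_lit 16, nat_lit 8, nat_lit 32] :=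
  cov_red (ctx h) h.hAV n112 (forall_mem_cons' (cov113 h) (forall_mem_cons' (cov114 h) (forall_mem_cons' (cov115 h) (forall_mem_cons' (cov116 h) (forall_mem_cons' (cov117 h) (forall_mem_cons' (cov118 h) forall_mem_nil'))))))

theorem cov111 {Γ X : Type*} [Group Γ] [MulAction Γ X] {T : Lst X J.n} {gen : ℕ → Γ} {A : Subgroup Γ} (h : J.Model T gen A) : Cov h.M (J.el gen) [L0, L1, L2, L3, L4, L5, L6] R [nat_lit 0, nat_lit 184, nat_lit 16, nat_lit 8, nat_lit 24, nat_lit 128] :=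
  cov_full (ctx h) n111

theorem cov110 {Γ X : Type*} [Group Γ] [MulAction Γ X] {T : Lst X J.n} {gen : ℕ → Γ} {A : Subgroup Γ} (h : J.Model T gen A) : Cov h.M (J.el gen) [L0, L1, L2, L3, L4, L5, L6] R [nat_lit 0, nat_lit 184, nat_lit 16, nat_lit 8, nat_lit 24, nat_lit 160] :=
  cov_full (ctx h) n110

theorem cov109 {Γ X : Type*} [Group Γ] [MulAction Γ X] {T : Lst X J.n} {gen : ℕ → Γ} {A : Subgroup Γ} (h : J.Model T gen A) : Cov h.M (J.el gen) [L0, L1, L2, L3, L4, L5, L6] R [nat_lit 0, nat_lit 184, nat_lit 16, nat_lit 8, nat_lit 24, nat_lit 64] :=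
  cov_full (ctx h) n109

theorem cov108 {Γ X : Type*} [Group Γ] [MulAction Γ X] {T : Lst X J.n} {gen : ℕ → Γ} {A : Subgroup Γ} (h : J.Model T gen A) : Cov h.M (J.el gen) [L0, L1, L2, L3, L4, L5, L6] R [nat_lit 0, nat_lit 184, nat_lit 16, nat_lit 8, nat_lit 24, nat_lit 96] :=
  cov_full (ctx h) n108

theorem cov107 {Γ X : Type*} [Group Γ] [MulAction Γ X] {T : Lst X J.n} {gen : ℕ → Γ} {A : Subgroup Γ} (h : J.Model T gen A) : Cov h.M (J.el gen) [L0, L1, L2, L3, L4, L5, L6] R [nat_lit 0, nat_lit 184, nat_lit 16, nat_lit 8, nat_lit 24, nat_lit 48] :=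
  cov_full (ctx h) n107

theorem cov106 {Γ X : Type*} [Group Γ] [MulAction Γ X] {T : Lst X J.n} {gen : ℕ → Γ} {A : Subgroup Γ} (h : J.Model T gen A) : Cov h.M (J.el gen) [L0, L1, L2, L3, L4, L5, L6] R [nat_lit 0, nat_lit 184, nat_lit 16, nat_lit 8, nat_lit 24, nat_lit 32] :=
  cov_full (ctx h) n106

theorem cov105 {Γ X : Type*} [Group Γ] [MulAction Γ X] {T : Lst X J.n} {gen : ℕ → Γ} {A : Subgroup Γ} (h : J.Model T gen A) : Cov h.M (J.el gen) [L0, L1, L2, L3, L4, L5, L6] R [nat_lit 0, nat_lit 184, nat_lit 16, nat_lit 8, nat_lit 24] :=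
  cov_red (ctx h) h.hAV n105 (forall_mem_cons' (cov106 h) (forall_mem_cons' (cov107 h) (forall_mem_cons' (cov108 h) (forall_mem_cons' (cov109 h) (forall_mem_cons' (cov110 h) (forall_mem_cons' (cov111 h) forall_mem_nil'))))))

theorem cov104 {Γ X : Type*} [Group Γ] [MulAction Γ X] {T : Lst X J.n} {gen : ℕ → Γ} {A : Subgroup Γ} (h : J.Model T gen A) : Cov h.M (J.el gen) [L0, L1, L2, L3, L4, L5, L6] R [nat_lit 0, nat_lit 184, nat_lit 16, nat_lit 8] :=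
  cov_red (ctx h) h.hAV n104 (forall_mem_cons' (cov105 h) (forall_mem_cons' (cov112 h) (forall_mem_cons' (cov119 h) forall_mem_nil')))

theorem cov103 {Γ X : Type*} [Group Γ] [MulAction Γ X] {T : Lst X J.n} {gen : ℕ → Γ} {A : Subgroup Γ} (h : J.Model T gen A) : Cov h.M (J.el gen) [L0, L1, L2, L3, L4, L5, L6] R [nat_lit 0, nat_lit 184, nat_lit 16] :=
  cov_red (ctx h) h.hAV n103 (forall_mem_cons' (cov104 h) (forall_mem_cons' (cov120 h) forall_mem_nil'))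

theorem cov102 {Γ X : Type*} [Group Γ] [MulAction Γ X] {T : Lst X J.n} {gen : ℕ → Γ} {A : Subgroup Γ} (h : J.Model T gen A) : Cov h.M (J.el gen) [L0, L1, L2, L3, L4, L5, L6] R [nat_lit 0, nat_lit 184, nat_lit 8, nat_lit 24, nat_lit 40] :=
  cov_full (ctx h) n102

theorem cov101 {Γ X : Type*} [Group Γ] [MulAction Γ X] {T : Lst X J.n} {gen : ℕ → Γ} {A : Subgroup Γ} (h : J.Model T gen A) : Cov h.M (J.el gen) [L0, L1, L2, L3, L4, L5, L6] R [nat_lit 0, nat_lit 184, nat_lit 8, nat_lit 24, nat_lit 32, nat_lit 104] :=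
  cov_full (ctx h) n101

theorem cov100 {Γ X : Type*} [Group Γ] [MulAction Γ X] {T : Lst X J.n} {gen : ℕ → Γ} {A : Subgroup Γ} (h : J.Model T gen A) : Cov h.M (J.el gen) [L0, L1, L2, L3, L4, L5, L6] R [nat_lit 0, nat_lit 184, nat_lit 8, nat_lit 24, nat_lit 32, nat_lit 64] :=
  cov_full (ctx h) n100

theorem cov99 {Γ X : Type*} [Group Γ] [MulAction Γ X] {T : Lst X J.n} {gen : ℕ → Γ} {A : Subgroup Γ} (h : J.Model T gen A) : Cov h.M (J.el gen) [L0, L1, L2, L3, L4, L5, L6] R [nat_lit 0, nat_lit 184, nat_lit 8, nat_lit 24, nat_lit 32, nat_lit 56] :=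
  cov_full (ctx h) n99

theorem cov98 {Γ X : Type*} [Group Γ] [MulAction Γ X] {T : Lst X J.n} {gen : ℕ → Γ} {A : Subgroup Γ} (h : J.Model T gen A) : Cov h.M (J.el gen) [L0, L1, L2, L3, L4, L5, L6] R [nat_lit 0, nat_lit 184, nat_lit 8, nat_lit 24, nat_lit 32, nat_lit 120] :=
  cov_full (ctx h) n98

theorem cov97 {Γ X : Type*} [Group Γ] [MulAction Γ X] {T : Lst X J.n} {gen : ℕ → Γ} {A : Subgroup Γ} (h : J.Model T gen A) : Cov h.M (J.el gen) [L0, L1, L2, L3, L4, L5, L6] R [nat_lit 0, nat_lit 184, nat_lit 8, nat_lit 24, nat_lit 32, nat_lit 40] :=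
  cov_full (ctx h) n97

theorem cov96 {Γ X : Type*} [Group Γ] [MulAction Γ X] {T : Lst X J.n} {gen : ℕ → Γ} {A : Subgroup Γ} (h : J.Model T gen A) : Cov h.M (J.el gen) [L0, L1, L2, L3, L4, L5, L6] R [nat_lit 0, nat_lit 184, nat_lit 8, nat_lit 24, nat_lit 32, nat_lit 16] :=
  cov_full (ctx h) n96

theorem cov95 {Γ X : Type*} [Group Γ] [MulAction Γ X] {T : Lst X J.n} {gen : ℕ → Γ} {A : Subgroup Γ} (h : J.Model T gen A) : Cov h.M (J.el gen) [L0, L1, L2, L3, L4, L5, L6] R [nat_lit 0, nat_lit 184, nat_lit 8, nat_lit 24, nat_lit 32] :=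
  cov_red (ctx h) h.hAV n95 (forall_mem_cons' (cov96 h) (forall_mem_cons' (cov97 h) (forall_mem_cons' (cov98 h) (forall_mem_cons' (cov99 h) (forall_mem_cons' (cov100 h) (forall_mem_cons' (cov101 h) forall_mem_nil'))))))

theorem cov94 {Γ X : Type*} [Group Γ] [MulAction Γ X] {T : Lst X J.n} {gen : ℕ → Γ} {A : Subgroup Γ} (h : J.Model T gen A) : Cov h.M (J.el gen) [L0, L1, L2, L3, L4, L5, L6] R [nat_lit 0, nat_lit 184, nat_lit 8, nat_lit 24, nat_lit 16, nat_lit 104] :=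
  cov_full (ctx h) n94

theorem cov93 {Γ X : Type*} [Group Γ] [MulAction Γ X] {T : Lst X J.n} {gen : ℕ → Γ} {A : Subgroup Γ} (h : J.Model T gen A) : Cov h.M (J.el gen) [L0, L1, L2, L3, L4, L5, L6] R [nat_lit 0, nat_lit 184, nat_lit 8, nat_lit 24, nat_lit 16, nat_lit 88] :=
  cov_full (ctx h) n93

theorem cov92 {Γ X : Type*} [Group Γ] [MulAction Γ X] {T : Lst X J.n} {gen : ℕ → Γ} {A : Subgroup Γ} (h : J.Model T gen A) : Cov h.M (J.el gen) [L0, L1, L2, L3, L4, L5, L6] R [nat_lit 0, nat_lit 184, nat_lit 8, nat_lit 24, nat_lit 16, nat_lit 168] :=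
  cov_full (ctx h) n92

theorem cov91 {Γ X : Type*} [Group Γ] [MulAction Γ X] {T : Lst X J.n} {gen : ℕ → Γ} {A : Subgroup Γ} (h : J.Model T gen A) : Cov h.M (J.el gen) [L0, L1, L2, L3, L4, L5, L6] R [nat_lit 0, nat_lit 184, nat_lit 8, nat_lit 24, nat_lit 16, nat_lit 56] :=
  cov_full (ctx h) n91

theorem cov90 {Γ X : Type*} [Group Γ] [MulAction Γ X] {T : Lst X J.n} {gen : ℕ → Γ} {A : Subgroup Γ} (h : J.Model T gen A) : Cov h.M (J.el gen) [L0, L1, L2, L3, L4, L5, L6] R [nat_lit 0, nat_lit 184, nat_lit 8, nat_lit 24, nat_lit 16, nat_lit 48] :=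
  cov_full (ctx h) n90

theorem cov89 {Γ X : Type*} [Group Γ] [MulAction Γ X] {T : Lst X J.n} {gen : ℕ → Γ} {A : Subgroup Γ} (h : J.Model T gen A) : Cov h.M (J.el gen) [L0, L1, L2, L3, L4, L5, L6] R [nat_lit 0, nat_lit 184, nat_lit 8, nat_lit 24, nat_lit 16, nat_lit 32] :=
  cov_full (ctx h) n89

theorem cov88 {Γ X : Type*} [Group Γ] [MulAction Γ X] {T : Lst X J.n} {gen : ℕ → Γ} {A : Subgroup Γ} (h : J.Model T gen A) : Cov h.M (J.el gen) [L0, L1, L2, L3, L4, L5, L6] R [nat_lit 0, nat_lit 184, nat_lit 8, nat_lit 24, nat_lit 16] :=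
  cov_red (ctx h) h.hAV n88 (forall_mem_cons' (cov89 h) (forall_mem_cons' (cov90 h) (forall_mem_cons' (cov91 h) (forall_mem_cons' (cov92 h) (forall_mem_cons' (cov93 h) (forall_mem_cons' (cov94 h) forall_mem_nil'))))))

theorem cov87 {Γ X : Type*} [Group Γ] [MulAction Γ X] {T : Lst X J.n} {gen : ℕ → Γ} {A : Subgroup Γ} (h : J.Model T gen A) : Cov h.M (J.el gen) [L0, L1, L2, L3, L4, L5, L6] R [nat_lit 0, nat_lit 184, nat_lit 8, nat_lit 24] :=
  cov_red (ctx h) h.hAV n87 (forall_mem_cons' (cov88 h) (forall_mem_cons' (cov95 h) (forall_mem_cons' (cov102 h) forall_mem_nil')))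

theorem cov86 {Γ X : Type*} [Group Γ] [MulAction Γ X] {T : Lst X J.n} {gen : ℕ → Γ} {A : Subgroup Γ} (h : J.Model T gen A) : Cov h.M (J.el gen) [L0, L1, L2, L3, L4, L5, L6] R [nat_lit 0, nat_lit 184, nat_lit 8, nat_lit 16, nat_lit 136] :=
  cov_full (ctx h) n86

theorem cov85 {Γ X : Type*} [Group Γ] [MulAction Γ X] {T : Lst X J.n} {gen : ℕ → Γ} {A : Subgroup Γ} (h : J.Model T gen A) : Cov h.M (J.el gen) [L0, L1, L2, L3, L4, L5, L6] R [nat_lit 0, nat_lit 184, nat_lit 8, nat_lit 16, nat_lit 32, nat_lit 152] :=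
  cov_full (ctx h) n85

theorem cov84 {Γ X : Type*} [Group Γ] [MulAction Γ X] {T : Lst X J.n} {gen : ℕ → Γ} {A : Subgroup Γ} (h : J.Model T gen A) : Cov h.M (J.el gen) [L0, L1, L2, L3, L4, L5, L6] R [nat_lit 0, nat_lit 184, nat_lit 8, nat_lit 16, nat_lit 32, nat_lit 64] :=
  cov_full (ctx h) n84

theorem cov83 {Γ X : Type*} [Group Γ] [MulAction Γ X] {T : Lst X J.n} {gen : ℕ → Γ} {A : Subgroup Γ} (h : J.Model T gen A) : Cov h.M (J.el gen) [L0, L1, L2, L3, L4, L5, L6] R [nat_lit 0, nat_lit 184, nat_lit 8, nat_lit 16, nat_lit 32, nat_lit 80] :=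
  cov_full (ctx h) n83

theorem cov82 {Γ X : Type*} [Group Γ] [MulAction Γ X] {T : Lst X J.n} {gen : ℕ → Γ} {A : Subgroup Γ} (h : J.Model T gen A) : Cov h.M (J.el gen) [L0, L1, L2, L3, L4, L5, L6] R [nat_lit 0, nat_lit 184, nat_lit 8, nat_lit 16, nat_lit 32, nat_lit 120] :=
  cov_full (ctx h) n82

theorem cov81 {Γ X : Type*} [Group Γ] [MulAction Γ X] {T : Lst X J.n} {gen : ℕ → Γ} {A : Subgroup Γ} (h : J.Model T gen A) : Cov h.M (J.el gen) [L0, L1, L2, L3, L4, L5, L6] R [nat_lit 0, nat_lit 184, nat_lit 8, nat_lit 16, nat_lit 32, nat_lit 40] :=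
  cov_full (ctx h) n81

theorem cov80 {Γ X : Type*} [Group Γ] [MulAction Γ X] {T : Lst X J.n} {gen : ℕ → Γ} {A : Subgroup Γ} (h : J.Model T gen A) : Cov h.M (J.el gen) [L0, L1, L2, L3, L4, L5, L6] R [nat_lit 0, nat_lit 184, nat_lit 8, nat_lit 16, nat_lit 32, nat_lit 24] :=
  cov_full (ctx h) n80

theorem cov79 {Γ X : Type*} [Group Γ] [MulAction Γ X] {T : Lst X J.n} {gen : ℕ → Γ} {A : Subgroup Γ} (h : J.Model T gen A) : Cov h.M (J.el gen) [L0, L1, L2, L3, L4, L5, L6] R [nat_lit 0, nat_lit 184, nat_lit 8, nat_lit 16, nat_lit 32] :=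
  cov_red (ctx h) h.hAV n79 (forall_mem_cons' (cov80 h) (forall_mem_cons' (cov81 h) (forall_mem_cons' (cov82 h) (forall_mem_cons' (cov83 h) (forall_mem_cons' (cov84 h) (forall_mem_cons' (cov85 h) forall_mem_nil'))))))

theorem cov78 {Γ X : Type*} [Group Γ] [MulAction Γ X] {T : Lst X J.n} {gen : ℕ → Γ} {A : Subgroup Γ} (h : J.Model T gen A) : Cov h.M (J.el gen) [L0, L1, L2, L3, L4, L5, L6] R [nat_lit 0, nat_lit 184, nat_lit 8, nat_lit 16, nat_lit 24, nat_lit 104] :=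
  cov_full (ctx h) n78

theorem cov77 {Γ X : Type*} [Group Γ] [MulAction Γ X] {T : Lst X J.n} {gen : ℕ → Γ} {A : Subgroup Γ} (h : J.Model T gen A) : Cov h.M (J.el gen) [L0, L1, L2, L3, L4, L5, L6] R [nat_lit 0, nat_lit 184, nat_lit 8, nat_lit 16, nat_lit 24, nat_lit 152] :=
  cov_full (ctx h) n77

theorem cov76 {Γ X : Type*} [Group Γ] [MulAction Γ X] {T : Lst X J.n} {gen : ℕ → Γ} {A : Subgroup Γ} (h : J.Model T gen A) : Cov h.M (J.el gen) [L0, L1, L2, L3, L4, L5, L6] R [nat_lit 0, nat_lit 184, nat_lit 8, nat_lit 16, nat_lit 24, nat_lit 72] :=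
  cov_full (ctx h) n76

theorem cov75 {Γ X : Type*} [Group Γ] [MulAction Γ X] {T : Lst X J.n} {gen : ℕ → Γ} {A : Subgroup Γ} (h : J.Model T gen A) : Cov h.M (J.el gen) [L0, L1, L2, L3, L4, L5, L6] R [nat_lit 0, nat_lit 184, nat_lit 8, nat_lit 16, nat_lit 24, nat_lit 80] :=
  cov_full (ctx h) n75

theorem cov74 {Γ X : Type*} [Group Γ] [MulAction Γ X] {T : Lst X J.n} {gen : ℕ → Γ} {A : Subgroup Γ} (h : J.Model T gen A) : Cov h.M (J.el gen) [L0, L1, L2, L3, L4, L5, L6] R [nat_lit 0, nat_lit 184, nat_lit 8, nat_lit 16, nat_lit 24, nat_lit 144] :=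
  cov_full (ctx h) n74

theorem cov73 {Γ X : Type*} [Group Γ] [MulAction Γ X] {T : Lst X J.n} {gen : ℕ → Γ} {A : Subgroup Γ} (h : J.Model T gen A) : Cov h.M (J.el gen) [L0, L1, L2, L3, L4, L5, L6] R [nat_lit 0, nat_lit 184, nat_lit 8, nat_lit 16, nat_lit 24, nat_lit 32] :=
  cov_full (ctx h) n73

theorem cov72 {Γ X : Type*} [Group Γ] [MulAction Γ X] {T : Lst X J.n} {gen : ℕ → Γ} {A : Subgroup Γ} (h : J.Model T gen A) : Cov h.M (J.el gen) [L0, L1, L2, L3, L4, L5, L6] R [nat_lit 0, nat_lit 184, nat_lit 8, nat_lit 16, nat_lit 24] :=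
  cov_red (ctx h) h.hAV n72 (forall_mem_cons' (cov73 h) (forall_mem_cons' (cov74 h) (forall_mem_cons' (cov75 h) (forall_mem_cons' (cov76 h) (forall_mem_cons' (cov77 h) (forall_mem_cons' (cov78 h) forall_mem_nil'))))))

theorem cov71 {Γ X : Type*} [Group Γ] [MulAction Γ X] {T : Lst X J.n} {gen : ℕ → Γ} {A : Subgroup Γ} (h : J.Model T gen A) : Cov h.M (J.el gen) [L0, L1, L2, L3, L4, L5, L6] R [nat_lit 0, nat_lit 184, nat_lit 8, nat_lit 16] :=
  cov_red (ctx h) h.hAV n71 (forall_mem_cons' (cov72 h) (forall_mem_cons' (cov79 h) (forall_mem_cons' (cov86 h) forall_mem_nil')))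

theorem cov70 {Γ X : Type*} [Group Γ] [MulAction Γ X] {T : Lst X J.n} {gen : ℕ → Γ} {A : Subgroup Γ} (h : J.Model T gen A) : Cov h.M (J.el gen) [L0, L1, L2, L3, L4, L5, L6] R [nat_lit 0, nat_lit 184, nat_lit 8] :=
  cov_red (ctx h) h.hAV n70 (forall_mem_cons' (cov71 h) (forall_mem_cons' (cov87 h) forall_mem_nil'))

theorem cov69 {Γ X : Type*} [Group Γ] [MulAction Γ X] {T : Lst X J.n} {gen : ℕ → Γ} {A : Subgroup Γ} (h : J.Model T gen A) : Cov h.M (J.el gen) [L0, L1, L2, L3, L4, L5, L6] R [nat_lit 0, nat_lit 184] :=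
  cov_red (ctx h) h.hAV n69 (forall_mem_cons' (cov70 h) (forall_mem_cons' (cov103 h) forall_mem_nil'))

theorem cov68 {Γ X : Type*} [Group Γ] [MulAction Γ X] {T : Lst X J.n} {gen : ℕ → Γ} {A : Subgroup Γ} (h : J.Model T gen A) : Cov h.M (J.el gen) [L0, L1, L2, L3, L4, L5, L6] R [nat_lit 0, nat_lit 8, nat_lit 184, nat_lit 24, nat_lit 136] :=
  cov_full (ctx h) n68

theorem cov67 {Γ X : Type*} [Group Γ] [MulAction Γ X] {T : Lst X J.n} {gen : ℕ → Γ} {A : Subgroup Γ} (h : J.Model T gen A) : Cov h.M (J.el gen) [L0, L1, L2, L3, L4, L5, L6] R [nat_lit 0, nat_lit 8, nat_lit 184, nat_lit 24, nat_lit 32, nat_lit 104] :=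
  cov_full (ctx h) n67

theorem cov66 {Γ X : Type*} [Group Γ] [MulAction Γ X] {T : Lst X J.n} {gen : ℕ → Γ} {A : Subgroup Γ} (h : J.Model T gen A) : Cov h.M (J.el gen) [L0, L1, L2, L3, L4, L5, L6] R [nat_lit 0, nat_lit 8, nat_lit 184, nat_lit 24, nat_lit 32, nat_lit 64] :=
  cov_full (ctx h) n66

theorem cov65 {Γ X : Type*} [Group Γ] [MulAction Γ X] {T : Lst X J.n} {gen : ℕ → Γ} {A : Subgroup Γ} (h : J.Model T gen A) : Cov h.M (J.el gen) [L0, L1, L2, L3, L4, L5, L6] R [nat_lit 0, nat_lit 8, nat_lit 184, nat_lit 24, nat_lit 32, nat_lit 56] :=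
  cov_full (ctx h) n65

theorem cov64 {Γ X : Type*} [Group Γ] [MulAction Γ X] {T : Lst X J.n} {gen : ℕ → Γ} {A : Subgroup Γ} (h : J.Model T gen A) : Cov h.M (J.el gen) [L0, L1, L2, L3, L4, L5, L6] R [nat_lit 0, nat_lit 8, nat_lit 184, nat_lit 24, nat_lit 32, nat_lit 144] :=
  cov_full (ctx h) n64

theorem cov63 {Γ X : Type*} [Group Γ] [MulAction Γ X] {T : Lst X J.n} {gen : ℕ → Γ} {A : Subgroup Γ} (h : J.Model T gen A) : Cov h.M (J.el gen) [L0, L1, L2, L3, L4, L5, L6] R [nat_lit 0, nat_lit 8, nat_lit 184, nat_lit 24, nat_lit 32, nat_lit 40] :=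
  cov_full (ctx h) n63

theorem cov62 {Γ X : Type*} [Group Γ] [MulAction Γ X] {T : Lst X J.n} {gen : ℕ → Γ} {A : Subgroup Γ} (h : J.Model T gen A) : Cov h.M (J.el gen) [L0, L1, L2, L3, L4, L5, L6] R [nat_lit 0, nat_lit 8, nat_lit 184, nat_lit 24, nat_lit 32, nat_lit 16] :=
  cov_full (ctx h) n62

theorem cov61 {Γ X : Type*} [Group Γ] [MulAction Γ X] {T : Lst X J.n} {gen : ℕ → Γ} {A : Subgroup Γ} (h : J.Model T gen A) : Cov h.M (J.el gen) [L0, L1, L2, L3, L4, L5, L6] R [nat_lit 0, nat_lit 8, nat_lit 184, nat_lit 24, nat_lit 32] :=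
  cov_red (ctx h) h.hAV n61 (forall_mem_cons' (cov62 h) (forall_mem_cons' (cov63 h) (forall_mem_cons' (cov64 h) (forall_mem_cons' (cov65 h) (forall_mem_cons' (cov66 h) (forall_mem_cons' (cov67 h) forall_mem_nil'))))))

theorem cov60 {Γ X : Type*} [Group Γ] [MulAction Γ X] {T : Lst X J.n} {gen : ℕ → Γ} {A : Subgroup Γ} (h : J.Model T gen A) : Cov h.M (J.el gen) [L0, L1, L2, L3, L4, L5, L6] R [nat_lit 0, nat_lit 8, nat_lit 184, nat_lit 24, nat_lit 16, nat_lit 104] :=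
  cov_full (ctx h) n60

theorem cov59 {Γ X : Type*} [Group Γ] [MulAction Γ X] {T : Lst X J.n} {gen : ℕ → Γ} {A : Subgroup Γ} (h : J.Model T gen A) : Cov h.M (J.el gen) [L0, L1, L2, L3, L4, L5, L6] R [nat_lit 0, nat_lit 8, nat_lit 184, nat_lit 24, nat_lit 16, nat_lit 160] :=
  cov_full (ctx h) n59

theorem cov58 {Γ X : Type*} [Group Γ] [MulAction Γ X] {T : Lst X J.n} {gen : ℕ → Γ} {A : Subgroup Γ} (h : J.Model T gen A) : Cov h.M (J.el gen) [L0, L1, L2, L3, L4, L5, L6] R [nat_lit 0, nat_lit 8, nat_lit 184, nat_lit 24, nat_lit 16, nat_lit 72] :=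
  cov_full (ctx h) n58

theorem cov57 {Γ X : Type*} [Group Γ] [MulAction Γ X] {T : Lst X J.n} {gen : ℕ → Γ} {A : Subgroup Γ} (h : J.Model T gen A) : Cov h.M (J.el gen) [L0, L1, L2, L3, L4, L5, L6] R [nat_lit 0, nat_lit 8, nat_lit 184, nat_lit 24, nat_lit 16, nat_lit 56] :=
  cov_full (ctx h) n57

theorem cov56 {Γ X : Type*} [Group Γ] [MulAction Γ X] {T : Lst X J.n} {gen : ℕ → Γ} {A : Subgroup Γ} (h : J.Model T gen A) : Cov h.M (J.el gen) [L0, L1, L2, L3, L4, L5, L6] R [nat_lit 0, nat_lit 8, nat_lit 184, nat_lit 24, nat_lit 16, nat_lit 120] :=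
  cov_full (ctx h) n56

theorem cov55 {Γ X : Type*} [Group Γ] [MulAction Γ X] {T : Lst X J.n} {gen : ℕ → Γ} {A : Subgroup Γ} (h : J.Model T gen A) : Cov h.M (J.el gen) [L0, L1, L2, L3, L4, L5, L6] R [nat_lit 0, nat_lit 8, nat_lit 184, nat_lit 24, nat_lit 16, nat_lit 32] :=
  cov_full (ctx h) n55

theorem cov54 {Γ X : Type*} [Group Γ] [MulAction Γ X] {T : Lst X J.n} {gen : ℕ → Γ} {A : Subgroup Γ} (h : J.Model T gen A) : Cov h.M (J.el gen) [L0, L1, L2, L3, L4, L5, L6] R [nat_lit 0, nat_lit 8, nat_lit 184, nat_lit 24, nat_lit 16] :=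
  cov_red (ctx h) h.hAV n54 (forall_mem_cons' (cov55 h) (forall_mem_cons' (cov56 h) (forall_mem_cons' (cov57 h) (forall_mem_cons' (cov58 h) (forall_mem_cons' (cov59 h) (forall_mem_cons' (cov60 h) forall_mem_nil'))))))

theorem cov53 {Γ X : Type*} [Group Γ] [MulAction Γ X] {T : Lst X J.n} {gen : ℕ → Γ} {A : Subgroup Γ} (h : J.Model T gen A) : Cov h.M (J.el gen) [L0, L1, L2, L3, L4, L5, L6] R [nat_lit 0, nat_lit 8, nat_lit 184, nat_lit 24] :=
  cov_red (ctx h) h.hAV n53 (forall_mem_cons' (cov54 h) (forall_mem_cons' (cov61 h) (forall_mem_cons' (cov68 h) forall_mem_nil')))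

theorem cov52 {Γ X : Type*} [Group Γ] [MulAction Γ X] {T : Lst X J.n} {gen : ℕ → Γ} {A : Subgroup Γ} (h : J.Model T gen A) : Cov h.M (J.el gen) [L0, L1, L2, L3, L4, L5, L6] R [nat_lit 0, nat_lit 8, nat_lit 184, nat_lit 16, nat_lit 112] :=
  cov_full (ctx h) n52

theorem cov51 {Γ X : Type*} [Group Γ] [MulAction Γ X] {T : Lst X J.n} {gen : ℕ → Γ} {A : Subgroup Γ} (h : J.Model T gen A) : Cov h.M (J.el gen) [L0, L1, L2, L3, L4, L5, L6] R [nat_lit 0, nat_lit 8, nat_lit 184, nat_lit 16, nat_lit 32, nat_lit 152] :=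
  cov_full (ctx h) n51

theorem cov50 {Γ X : Type*} [Group Γ] [MulAction Γ X] {T : Lst X J.n} {gen : ℕ → Γ} {A : Subgroup Γ} (h : J.Model T gen A) : Cov h.M (J.el gen) [L0, L1, L2, L3, L4, L5, L6] R [nat_lit 0, nat_lit 8, nat_lit 184, nat_lit 16, nat_lit 32, nat_lit 72] :=
  cov_full (ctx h) n50

theorem cov49 {Γ X : Type*} [Group Γ] [MulAction Γ X] {T : Lst X J.n} {gen : ℕ → Γ} {A : Subgroup Γ} (h : J.Model T gen A) : Cov h.M (J.el gen) [L0, L1, L2, L3, L4, L5, L6] R [nat_lit 0, nat_lit 8, nat_lit 184, nat_lit 16, nat_lit 32, nat_lit 80] :=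
  cov_full (ctx h) n49

theorem cov48 {Γ X : Type*} [Group Γ] [MulAction Γ X] {T : Lst X J.n} {gen : ℕ → Γ} {A : Subgroup Γ} (h : J.Model T gen A) : Cov h.M (J.el gen) [L0, L1, L2, L3, L4, L5, L6] R [nat_lit 0, nat_lit 8, nat_lit 184, nat_lit 16, nat_lit 32, nat_lit 144] :=
  cov_full (ctx h) n48

theorem cov47 {Γ X : Type*} [Group Γ] [MulAction Γ X] {T : Lst X J.n} {gen : ℕ → Γ} {A : Subgroup Γ} (h : J.Model T gen A) : Cov h.M (J.el gen) [L0, L1, L2, L3, L4, L5, L6] R [nat_lit 0, nat_lit 8, nat_lit 184, nat_lit 16, nat_lit 32, nat_lit 112] :=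
  cov_full (ctx h) n47

theorem cov46 {Γ X : Type*} [Group Γ] [MulAction Γ X] {T : Lst X J.n} {gen : ℕ → Γ} {A : Subgroup Γ} (h : J.Model T gen A) : Cov h.M (J.el gen) [L0, L1, L2, L3, L4, L5, L6] R [nat_lit 0, nat_lit 8, nat_lit 184, nat_lit 16, nat_lit 32, nat_lit 24] :=
  cov_full (ctx h) n46

theorem cov45 {Γ X : Type*} [Group Γ] [MulAction Γ X] {T : Lst X J.n} {gen : ℕ → Γ} {A : Subgroup Γ} (h : J.Model T gen A) : Cov h.M (J.el gen) [L0, L1, L2, L3, L4, L5, L6] R [nat_lit 0, nat_lit 8, nat_lit 184, nat_lit 16, nat_lit 32] :=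
  cov_red (ctx h) h.hAV n45 (forall_mem_cons' (cov46 h) (forall_mem_cons' (cov47 h) (forall_mem_cons' (cov48 h) (forall_mem_cons' (cov49 h) (forall_mem_cons' (cov50 h) (forall_mem_cons' (cov51 h) forall_mem_nil'))))))

theorem cov44 {Γ X : Type*} [Group Γ] [MulAction Γ X] {T : Lst X J.n} {gen : ℕ → Γ} {A : Subgroup Γ} (h : J.Model T gen A) : Cov h.M (J.el gen) [L0, L1, L2, L3, L4, L5, L6] R [nat_lit 0, nat_lit 8, nat_lit 184, nat_lit 16, nat_lit 24, nat_lit 128] :=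
  cov_full (ctx h) n44

theorem cov43 {Γ X : Type*} [Group Γ] [MulAction Γ X] {T : Lst X J.n} {gen : ℕ → Γ} {A : Subgroup Γ} (h : J.Model T gen A) : Cov h.M (J.el gen) [L0, L1, L2, L3, L4, L5, L6] R [nat_lit 0, nat_lit 8, nat_lit 184, nat_lit 16, nat_lit 24, nat_lit 88] :=
  cov_full (ctx h) n43

theorem cov42 {Γ X : Type*} [Group Γ] [MulAction Γ X] {T : Lst X J.n} {gen : ℕ → Γ} {A : Subgroup Γ} (h : J.Model T gen A) : Cov h.M (J.el gen) [L0, L1, L2, L3, L4, L5, L6] R [nat_lit 0, nat_lit 8, nat_lit 184, nat_lit 16, nat_lit 24, nat_lit 168] :=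
  cov_full (ctx h) n42

theorem cov41 {Γ X : Type*} [Group Γ] [MulAction Γ X] {T : Lst X J.n} {gen : ℕ → Γ} {A : Subgroup Γ} (h : J.Model T gen A) : Cov h.M (J.el gen) [L0, L1, L2, L3, L4, L5, L6] R [nat_lit 0, nat_lit 8, nat_lit 184, nat_lit 16, nat_lit 24, nat_lit 96] :=
  cov_full (ctx h) n41

theorem cov40 {Γ X : Type*} [Group Γ] [MulAction Γ X] {T : Lst X J.n} {gen : ℕ → Γ} {A : Subgroup Γ} (h : J.Model T gen A) : Cov h.M (J.el gen) [L0, L1, L2, L3, L4, L5, L6] R [nat_lit 0, nat_lit 8, nat_lit 184, nat_lit 16, nat_lit 24, nat_lit 120] :=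
  cov_full (ctx h) n40

theorem cov39 {Γ X : Type*} [Group Γ] [MulAction Γ X] {T : Lst X J.n} {gen : ℕ → Γ} {A : Subgroup Γ} (h : J.Model T gen A) : Cov h.M (J.el gen) [L0, L1, L2, L3, L4, L5, L6] R [nat_lit 0, nat_lit 8, nat_lit 184, nat_lit 16, nat_lit 24, nat_lit 32] :=
  cov_full (ctx h) n39

theorem cov38 {Γ X : Type*} [Group Γ] [MulAction Γ X] {T : Lst X J.n} {gen : ℕ → Γ} {A : Subgroup Γ} (h : J.Model T gen A) : Cov h.M (J.el gen) [L0, L1, L2, L3, L4, L5, L6] R [nat_lit 0, nat_lit 8, nat_lit 184, nat_lit 16, nat_lit 24] :=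
  cov_red (ctx h) h.hAV n38 (forall_mem_cons' (cov39 h) (forall_mem_cons' (cov40 h) (forall_mem_cons' (cov41 h) (forall_mem_cons' (cov42 h) (forall_mem_cons' (cov43 h) (forall_mem_cons' (cov44 h) forall_mem_nil'))))))

theorem cov37 {Γ X : Type*} [Group Γ] [MulAction Γ X] {T : Lst X J.n} {gen : ℕ → Γ} {A : Subgroup Γ} (h : J.Model T gen A) : Cov h.M (J.el gen) [L0, L1, L2, L3, L4, L5, L6] R [nat_lit 0, nat_lit 8, nat_lit 184, nat_lit 16] :=
  cov_red (ctx h) h.hAV n37 (forall_mem_cons' (cov38 h) (forall_mem_cons' (cov45 h) (forall_mem_cons' (cov52 h) forall_mem_nil')))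

theorem cov36 {Γ X : Type*} [Group Γ] [MulAction Γ X] {T : Lst X J.n} {gen : ℕ → Γ} {A : Subgroup Γ} (h : J.Model T gen A) : Cov h.M (J.el gen) [L0, L1, L2, L3, L4, L5, L6] R [nat_lit 0, nat_lit 8, nat_lit 184] :=
  cov_red (ctx h) h.hAV n36 (forall_mem_cons' (cov37 h) (forall_mem_cons' (cov53 h) forall_mem_nil'))

theorem cov35 {Γ X : Type*} [Group Γ] [MulAction Γ X] {T : Lst X J.n} {gen : ℕ → Γ} {A : Subgroup Γ} (h : J.Model T gen A) : Cov h.M (J.el gen) [L0, L1, L2, L3, L4, L5, L6] R [nat_lit 0, nat_lit 8, nat_lit 16, nat_lit 184, nat_lit 112] :=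
  cov_full (ctx h) n35

theorem cov34 {Γ X : Type*} [Group Γ] [MulAction Γ X] {T : Lst X J.n} {gen : ℕ → Γ} {A : Subgroup Γ} (h : J.Model T gen A) : Cov h.M (J.el gen) [L0, L1, L2, L3, L4, L5, L6] R [nat_lit 0, nat_lit 8, nat_lit 16, nat_lit 184, nat_lit 32, nat_lit 160] :=
  cov_full (ctx h) n34

theorem cov33 {Γ X : Type*} [Group Γ] [MulAction Γ X] {T : Lst X J.n} {gen : ℕ → Γ} {A : Subgroup Γ} (h : J.Model T gen A) : Cov h.M (J.el gen) [L0, L1, L2, L3, L4, L5, L6] R [nat_lit 0, nat_lit 8, nat_lit 16, nat_lit 184, nat_lit 32, nat_lit 168] :=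
  cov_full (ctx h) n33

theorem cov32 {Γ X : Type*} [Group Γ] [MulAction Γ X] {T : Lst X J.n} {gen : ℕ → Γ} {A : Subgroup Γ} (h : J.Model T gen A) : Cov h.M (J.el gen) [L0, L1, L2, L3, L4, L5, L6] R [nat_lit 0, nat_lit 8, nat_lit 16, nat_lit 184, nat_lit 32, nat_lit 80] :=
  cov_full (ctx h) n32

theorem cov31 {Γ X : Type*} [Group Γ] [MulAction Γ X] {T : Lst X J.n} {gen : ℕ → Γ} {A : Subgroup Γ} (h : J.Model T gen A) : Cov h.M (J.el gen) [L0, L1, L2, L3, L4, L5, L6] R [nat_lit 0, nat_lit 8, nat_lit 16, nat_lit 184, nat_lit 32, nat_lit 120] :=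
  cov_full (ctx h) n31

theorem cov30 {Γ X : Type*} [Group Γ] [MulAction Γ X] {T : Lst X J.n} {gen : ℕ → Γ} {A : Subgroup Γ} (h : J.Model T gen A) : Cov h.M (J.el gen) [L0, L1, L2, L3, L4, L5, L6] R [nat_lit 0, nat_lit 8, nat_lit 16, nat_lit 184, nat_lit 32, nat_lit 136] :=
  cov_full (ctx h) n30

theorem cov29 {Γ X : Type*} [Group Γ] [MulAction Γ X] {T : Lst X J.n} {gen : ℕ → Γ} {A : Subgroup Γ} (h : J.Model T gen A) : Cov h.M (J.el gen) [L0, L1, L2, L3, L4, L5, L6] R [nat_lit 0, nat_lit 8, nat_lit 16, nat_lit 184, nat_lit 32, nat_lit 24] :=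
  cov_full (ctx h) n29

theorem cov28 {Γ X : Type*} [Group Γ] [MulAction Γ X] {T : Lst X J.n} {gen : ℕ → Γ} {A : Subgroup Γ} (h : J.Model T gen A) : Cov h.M (J.el gen) [L0, L1, L2, L3, L4, L5, L6] R [nat_lit 0, nat_lit 8, nat_lit 16, nat_lit 184, nat_lit 32] :=
  cov_red (ctx h) h.hAV n28 (forall_mem_cons' (cov29 h) (forall_mem_cons' (cov30 h) (forall_mem_cons' (cov31 h) (forall_mem_cons' (cov32 h) (forall_mem_cons' (cov33 h) (forall_mem_cons' (cov34 h) forall_mem_nil'))))))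

theorem cov27 {Γ X : Type*} [Group Γ] [MulAction Γ X] {T : Lst X J.n} {gen : ℕ → Γ} {A : Subgroup Γ} (h : J.Model T gen A) : Cov h.M (J.el gen) [L0, L1, L2, L3, L4, L5, L6] R [nat_lit 0, nat_lit 8, nat_lit 16, nat_lit 184, nat_lit 24, nat_lit 104] :=
  cov_full (ctx h) n27

theorem cov26 {Γ X : Type*} [Group Γ] [MulAction Γ X] {T : Lst X J.n} {gen : ℕ → Γ} {A : Subgroup Γ} (h : J.Model T gen A) : Cov h.M (J.el gen) [L0, L1, L2, L3, L4, L5, L6] R [nat_lit 0, nat_lit 8, nat_lit 16, nat_lit 184, nat_lit 24, nat_lit 160] :=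
  cov_full (ctx h) n26

theorem cov25 {Γ X : Type*} [Group Γ] [MulAction Γ X] {T : Lst X J.n} {gen : ℕ → Γ} {A : Subgroup Γ} (h : J.Model T gen A) : Cov h.M (J.el gen) [L0, L1, L2, L3, L4, L5, L6] R [nat_lit 0, nat_lit 8, nat_lit 16, nat_lit 184, nat_lit 24, nat_lit 72] :=
  cov_full (ctx h) n25

theorem cov24 {Γ X : Type*} [Group Γ] [MulAction Γ X] {T : Lst X J.n} {gen : ℕ → Γ} {A : Subgroup Γ} (h : J.Model T gen A) : Cov h.M (J.el gen) [L0, L1, L2, L3, L4, L5, L6] R [nat_lit 0, nat_lit 8, nat_lit 16, nat_lit 184, nat_lit 24, nat_lit 56] :=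
  cov_full (ctx h) n24

theorem cov23 {Γ X : Type*} [Group Γ] [MulAction Γ X] {T : Lst X J.n} {gen : ℕ → Γ} {A : Subgroup Γ} (h : J.Model T gen A) : Cov h.M (J.el gen) [L0, L1, L2, L3, L4, L5, L6] R [nat_lit 0, nat_lit 8, nat_lit 16, nat_lit 184, nat_lit 24, nat_lit 144] :=
  cov_full (ctx h) n23

theorem cov22 {Γ X : Type*} [Group Γ] [MulAction Γ X] {T : Lst X J.n} {gen : ℕ → Γ} {A : Subgroup Γ} (h : J.Model T gen A) : Cov h.M (J.el gen) [L0, L1, L2, L3, L4, L5, L6] R [nat_lit 0, nat_lit 8, nat_lit 16, nat_lit 184, nat_lit 24, nat_lit 32] :=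
  cov_full (ctx h) n22

theorem cov21 {Γ X : Type*} [Group Γ] [MulAction Γ X] {T : Lst X J.n} {gen : ℕ → Γ} {A : Subgroup Γ} (h : J.Model T gen A) : Cov h.M (J.el gen) [L0, L1, L2, L3, L4, L5, L6] R [nat_lit 0, nat_lit 8, nat_lit 16, nat_lit 184, nat_lit 24] :=
  cov_red (ctx h) h.hAV n21 (forall_mem_cons' (cov22 h) (forall_mem_cons' (cov23 h) (forall_mem_cons' (cov24 h) (forall_mem_cons' (cov25 h) (forall_mem_cons' (cov26 h) (forall_mem_cons' (cov27 h) forall_mem_nil'))))))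

theorem cov20 {Γ X : Type*} [Group Γ] [MulAction Γ X] {T : Lst X J.n} {gen : ℕ → Γ} {A : Subgroup Γ} (h : J.Model T gen A) : Cov h.M (J.el gen) [L0, L1, L2, L3, L4, L5, L6] R [nat_lit 0, nat_lit 8, nat_lit 16, nat_lit 184] :=
  cov_red (ctx h) h.hAV n20 (forall_mem_cons' (cov21 h) (forall_mem_cons' (cov28 h) (forall_mem_cons' (cov35 h) forall_mem_nil')))

theorem cov19 {Γ X : Type*} [Group Γ] [MulAction Γ X] {T : Lst X J.n} {gen : ℕ → Γ} {A : Subgroup Γ} (h : J.Model T gen A) : Cov h.M (J.el gen) [L0, L1, L2, L3, L4, L5, L6] R [nat_lit 0, nat_lit 8, nat_lit 16, nat_lit 24, nat_lit 184, nat_lit 104] :=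
  cov_full (ctx h) n19

theorem cov18 {Γ X : Type*} [Group Γ] [MulAction Γ X] {T : Lst X J.n} {gen : ℕ → Γ} {A : Subgroup Γ} (h : J.Model T gen A) : Cov h.M (J.el gen) [L0, L1, L2, L3, L4, L5, L6] R [nat_lit 0, nat_lit 8, nat_lit 16, nat_lit 24, nat_lit 184, nat_lit 152] :=
  cov_full (ctx h) n18

theorem cov17 {Γ X : Type*} [Group Γ] [MulAction Γ X] {T : Lst X J.n} {gen : ℕ → Γ} {A : Subgroup Γ} (h : J.Model T gen A) : Cov h.M (J.el gen) [L0, L1, L2, L3, L4, L5, L6] R [nat_lit 0, nat_lit 8, nat_lit 16, nat_lit 24, nat_lit 184, nat_lit 72] :=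
  cov_full (ctx h) n17

theorem cov16 {Γ X : Type*} [Group Γ] [MulAction Γ X] {T : Lst X J.n} {gen : ℕ → Γ} {A : Subgroup Γ} (h : J.Model T gen A) : Cov h.M (J.el gen) [L0, L1, L2, L3, L4, L5, L6] R [nat_lit 0, nat_lit 8, nat_lit 16, nat_lit 24, nat_lit 184, nat_lit 56] :=
  cov_full (ctx h) n16

theorem cov15 {Γ X : Type*} [Group Γ] [MulAction Γ X] {T : Lst X J.n} {gen : ℕ → Γ} {A : Subgroup Γ} (h : J.Model T gen A) : Cov h.M (J.el gen) [L0, L1, L2, L3, L4, L5, L6] R [nat_lit 0, nat_lit 8, nat_lit 16, nat_lit 24, nat_lit 184, nat_lit 48] :=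
  cov_full (ctx h) n15

theorem cov14 {Γ X : Type*} [Group Γ] [MulAction Γ X] {T : Lst X J.n} {gen : ℕ → Γ} {A : Subgroup Γ} (h : J.Model T gen A) : Cov h.M (J.el gen) [L0, L1, L2, L3, L4, L5, L6] R [nat_lit 0, nat_lit 8, nat_lit 16, nat_lit 24, nat_lit 184, nat_lit 32] :=
  cov_full (ctx h) n14

theorem cov13 {Γ X : Type*} [Group Γ] [MulAction Γ X] {T : Lst X J.n} {gen : ℕ → Γ} {A : Subgroup Γ} (h : J.Model T gen A) : Cov h.M (J.el gen) [L0, L1, L2, L3, L4, L5, L6] R [nat_lit 0, nat_lit 8, nat_lit 16, nat_lit 24, nat_lit 184] :=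
  cov_red (ctx h) h.hAV n13 (forall_mem_cons' (cov14 h) (forall_mem_cons' (cov15 h) (forall_mem_cons' (cov16 h) (forall_mem_cons' (cov17 h) (forall_mem_cons' (cov18 h) (forall_mem_cons' (cov19 h) forall_mem_nil'))))))

theorem cov12 {Γ X : Type*} [Group Γ] [MulAction Γ X] {T : Lst X J.n} {gen : ℕ → Γ} {A : Subgroup Γ} (h : J.Model T gen A) : Cov h.M (J.el gen) [L0, L1, L2, L3, L4, L5, L6] R [nat_lit 0, nat_lit 8, nat_lit 16, nat_lit 24, nat_lit 112] :=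
  cov_full (ctx h) n12

theorem cov11 {Γ X : Type*} [Group Γ] [MulAction Γ X] {T : Lst X J.n} {gen : ℕ → Γ} {A : Subgroup Γ} (h : J.Model T gen A) : Cov h.M (J.el gen) [L0, L1, L2, L3, L4, L5, L6] R [nat_lit 0, nat_lit 8, nat_lit 16, nat_lit 24, nat_lit 32, nat_lit 184] :=
  cov_full (ctx h) n11

theorem cov10 {Γ X : Type*} [Group Γ] [MulAction Γ X] {T : Lst X J.n} {gen : ℕ → Γ} {A : Subgroup Γ} (h : J.Model T gen A) : Cov h.M (J.el gen) [L0, L1, L2, L3, L4, L5, L6] R [nat_lit 0, nat_lit 8, nat_lit 16, nat_lit 24, nat_lit 32, nat_lit 128] :=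
  cov_full (ctx h) n10

theorem cov9 {Γ X : Type*} [Group Γ] [MulAction Γ X] {T : Lst X J.n} {gen : ℕ → Γ} {A : Subgroup Γ} (h : J.Model T gen A) : Cov h.M (J.el gen) [L0, L1, L2, L3, L4, L5, L6] R [nat_lit 0, nat_lit 8, nat_lit 16, nat_lit 24, nat_lit 32, nat_lit 88] :=
  cov_full (ctx h) n9

theorem cov8 {Γ X : Type*} [Group Γ] [MulAction Γ X] {T : Lst X J.n} {gen : ℕ → Γ} {A : Subgroup Γ} (h : J.Model T gen A) : Cov h.M (J.el gen) [L0, L1, L2, L3, L4, L5, L6] R [nat_lit 0, nat_lit 8, nat_lit 16, nat_lit 24, nat_lit 32, nat_lit 72] :=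
  cov_full (ctx h) n8

theorem cov7 {Γ X : Type*} [Group Γ] [MulAction Γ X] {T : Lst X J.n} {gen : ℕ → Γ} {A : Subgroup Γ} (h : J.Model T gen A) : Cov h.M (J.el gen) [L0, L1, L2, L3, L4, L5, L6] R [nat_lit 0, nat_lit 8, nat_lit 16, nat_lit 24, nat_lit 32, nat_lit 144] :=
  cov_full (ctx h) n7

theorem cov6 {Γ X : Type*} [Group Γ] [MulAction Γ X] {T : Lst X J.n} {gen : ℕ → Γ} {A : Subgroup Γ} (h : J.Model T gen A) : Cov h.M (J.el gen) [L0, L1, L2, L3, L4, L5, L6] R [nat_lit 0, nat_lit 8, nat_lit 16, nat_lit 24, nat_lit 32, nat_lit 136] :=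
  cov_full (ctx h) n6

theorem cov5 {Γ X : Type*} [Group Γ] [MulAction Γ X] {T : Lst X J.n} {gen : ℕ → Γ} {A : Subgroup Γ} (h : J.Model T gen A) : Cov h.M (J.el gen) [L0, L1, L2, L3, L4, L5, L6] R [nat_lit 0, nat_lit 8, nat_lit 16, nat_lit 24, nat_lit 32] :=
  cov_red (ctx h) h.hAV n5 (forall_mem_cons' (cov6 h) (forall_mem_cons' (cov7 h) (forall_mem_cons' (cov8 h) (forall_mem_cons' (cov9 h) (forall_mem_cons' (cov10 h) (forall_mem_cons' (cov11 h) forall_mem_nil'))))))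

theorem cov4 {Γ X : Type*} [Group Γ] [MulAction Γ X] {T : Lst X J.n} {gen : ℕ → Γ} {A : Subgroup Γ} (h : J.Model T gen A) : Cov h.M (J.el gen) [L0, L1, L2, L3, L4, L5, L6] R [nat_lit 0, nat_lit 8, nat_lit 16, nat_lit 24] :=
  cov_red (ctx h) h.hAV n4 (forall_mem_cons' (cov5 h) (forall_mem_cons' (cov12 h) (forall_mem_cons' (cov13 h) forall_mem_nil')))

theorem cov3 {Γ X : Type*} [Group Γ] [MulAction Γ X] {T : Lst X J.n} {gen : ℕ → Γ} {A : Subgroup Γ} (h : J.Model T gen A) : Cov h.M (J.el gen) [L0, L1, L2, L3, L4, L5, L6] R [nat_lit 0, nat_lit 8, nat_lit 16] :=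
  cov_red (ctx h) h.hAV n3 (forall_mem_cons' (cov4 h) (forall_mem_cons' (cov20 h) forall_mem_nil'))

theorem cov2 {Γ X : Type*} [Group Γ] [MulAction Γ X] {T : Lst X J.n} {gen : ℕ → Γ} {A : Subgroup Γ} (h : J.Model T gen A) : Cov h.M (J.el gen) [L0, L1, L2, L3, L4, L5, L6] R [nat_lit 0, nat_lit 8] :=
  cov_red (ctx h) h.hAV n2 (forall_mem_cons' (cov3 h) (forall_mem_cons' (cov36 h) forall_mem_nil'))

theorem cov1 {Γ X : Type*} [Group Γ] [MulAction Γ X] {T : Lst X J.n} {gen : ℕ → Γ} {A : Subgroup Γ} (h : J.Model T gen A) : Cov h.M (J.el gen) [L0, L1, L2, L3, L4, L5, L6] R [nat_lit 0] :=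
  cov_red (ctx h) h.hAV n1 (forall_mem_cons' (cov2 h) (forall_mem_cons' (cov69 h) forall_mem_nil'))

theorem cov0 {Γ X : Type*} [Group Γ] [MulAction Γ X] {T : Lst X J.n} {gen : ℕ → Γ} {A : Subgroup Γ} (h : J.Model T gen A) : Cov h.M (J.el gen) [L0, L1, L2, L3, L4, L5, L6] R [] :=
  cov_red (ctx h) h.hAV n0 (forall_mem_cons' (cov1 h) (forall_mem_cons' (cov136 h) forall_mem_nil'))

theorem classes {Γ X : Type*} [Group Γ] [MulAction Γ X] {T : Lst X J.n} {gen : ℕ → Γ} {A : Subgroup Γ} (h : J.Model T gen A) : ∀ g ∈ J.G gen, ∃ j, j < 26 ∧ ∃ c ∈ J.G gen, c * g = R.x (J.el gen) j * c := by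
  rw [← GpL_eq]; exact (cov0 h).all

theorem ords {Γ X : Type*} [Group Γ] [MulAction Γ X] {T : Lst X J.n} {gen : ℕ → Γ} {A : Subgroup Γ} (h : J.Model T gen A) : ∀ j, j < 26 → orderOf (R.x (J.el gen) j) = nth os j :=
  specChk_ord (ctx h) sp

theorem spec {Γ X : Type*} [Group Γ] [MulAction Γ X] {T : Lst X J.n} {gen : ℕ → Γ} {A : Subgroup Γ} (h : J.Model T gen A) : Set.range (orderOf : J.G gen → ℕ) = {n | n ∈ [1, 2, 3, 4, 5, 6, 7, 8, 10, 11, 12, 14, 15, 21, 23]} := by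
  rw [← GpL_eq]; exact spec_of_chk (ctx h) (cov0 h) sp

end Cfsg.Agent.Comp.M24y
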